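import Groth.Agent.SGA7.K564.ExtBase
import Groth.Agent.SGA3.K206.Fpqc
import Groth.Agent.NoriFGS.K996.LocSplit

/-!
# Extensions by twisted constant torsion free groups over a general base
-/

set_option autoImplicit false
universe u

open CategoryTheory CategoryTheory.Limits MonoidalCategory CartesianMonoidalCategory MonObj GrpObj AlgebraicGeometry
open K564.ConstTors K564.ExtBase

namespace K564.ExtTwisted

variable {S : Scheme.{u}} {E P : Over S}

/-- Over `f : W ⟶ S` the morphism `v` has simply transitive constant torsion free translations. -/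
def ConstOver (v : E ⟶ P) {W : Scheme.{u}} (f : W ⟶ S) : Prop :=
  ∃ (Z : Type u) (_ : Group Z), (∀ z : Z, IsOfFinOrder z → z = 1) ∧
    Nonempty (CT ((Over.pullback f).map v).left Z)

theorem eq_of_constOver (v : E ⟶ P) {W : Scheme.{u}} {f : W ⟶ S} (h : ConstOver v f) {T T₀ : Scheme.{u}}
    (t₀ : T₀ ⟶ W) (p : T ⟶ T₀) [GeometricallyConnected p] (e : T₀ ⟶ T) (he : e ≫ p = 𝟙 _) (x y : T ⟶ E.left)
    (hx : x ≫ E.hom = p ≫ t₀ ≫ f) (hxy : x ≫ v.left = y ≫ v.left) (hexy : e ≫ x = e ≫ y) : x = y := by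
  obtain ⟨Z, _, hZ, ⟨c⟩⟩ := h
  have hy : y ≫ E.hom = p ≫ t₀ ≫ f := by
    rw [← hx, ← Over.w v, ← Category.assoc, ← Category.assoc, hxy]
  let x' : T ⟶ ((Over.pullback f).obj E).left := pullback.lift x (p ≫ t₀) (by rw [hx, Category.assoc])
  let y' : T ⟶ ((Over.pullback f).obj E).left := pullback.lift y (p ≫ t₀) (by rw [hy, Category.assoc])
  have hx1 : x' ≫ pullback.fst E.hom f = x := pullback.lift_fst _ _ _
  have hy1 : y' ≫ pullback.fst E.hom f = y := pullback.lift_fst _ _ _
  have hx2 : x' ≫ pullback.snd E.hom f = p ≫ t₀ := pullback.lift_snd _ _ _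
  have hy2 : y' ≫ pullback.snd E.hom f = p ≫ t₀ := pullback.lift_snd _ _ _
  have hv1 : ((Over.pullback f).map v).left ≫ pullback.fst P.hom f = pullback.fst E.hom f ≫ v.left :=
    (isPullback_left f v).w.symm
  have hv2 : ((Over.pullback f).map v).left ≫ pullback.snd P.hom f = pullback.snd E.hom f :=
    Over.w ((Over.pullback f).map v)
  have key : x' = y' := by
    apply c.eq_of_section p e he
    · apply pullback.hom_ext (f := P.hom) (g := f)
      · rw [Category.assoc, Category.assoc, hv1, reassoc_of% hx1, reassoc_of% hy1, hxy]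
      · rw [Category.assoc, Category.assoc, hv2, hx2, hy2]
    · apply pullback.hom_ext (f := E.hom) (g := f)
      · rw [Category.assoc, Category.assoc, hx1, hy1, hexy]
      · rw [Category.assoc, Category.assoc, hx2, hy2]
  rw [← hx1, ← hy1, key]

variable {R : Presieve S} (hR : R ∈ Scheme.fpqcPrecoverage S)

include hR in
theorem eq_of_cover (v : E ⟶ P) (hc : ∀ ⦃W : Scheme.{u}⦄ (f : W ⟶ S), R f → ConstOver v f) {T : Scheme.{u}}
    (p : T ⟶ S) [GeometricallyConnected p] (e : S ⟶ T) (he : e ≫ p = 𝟙 _) (x y : T ⟶ E.left)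
    (hx : x ≫ E.hom = p) (hxy : x ≫ v.left = y ≫ v.left) (hexy : e ≫ x = e ≫ y) : x = y := by
  refine (K996.LocSplit.isSheafFor (Z := E.left) (Precoverage.pullbackArrows_mem p hR)).isSeparatedFor.ext ?_
  rintro T' t ⟨W, f, hf⟩
  change pullback.snd f p ≫ x = pullback.snd f p ≫ y
  let eW : W ⟶ pullback f p := pullback.lift (𝟙 W) (f ≫ e) (by
    rw [Category.assoc, he, Category.comp_id, Category.id_comp])
  refine eq_of_constOver v (hc f hf) (𝟙 W) (pullback.fst f p) eW (pullback.lift_fst _ _ _) _ _ ?_ ?_ ?_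
  · rw [Category.assoc, hx, Category.id_comp, pullback.condition]
  · rw [Category.assoc, Category.assoc, hxy]
  · have h1 : eW ≫ pullback.snd f p = f ≫ e := pullback.lift_snd _ _ _
    rw [reassoc_of% h1, reassoc_of% h1, hexy]

include hR in
theorem exists_section_of_cover (v : E ⟶ P) (hloc : LocTriv v.left)
    [Smooth P.hom] [QuasiCompact P.hom] [QuasiSeparated P.hom] [GeometricallyConnected P.hom]
    (hc : ∀ ⦃W : Scheme.{u}⦄ (f : W ⟶ S), R f → ConstOver v f)
    (e : S ⟶ P.left) (he : e ≫ P.hom = 𝟙 S) (e' : S ⟶ E.left) (he' : e' ≫ v.left = e) :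
    ∃ s : P.left ⟶ E.left, s ≫ v.left = 𝟙 _ ∧ e ≫ s = e' := by
  have he'E : e' ≫ E.hom = 𝟙 S := by rw [← Over.w v, reassoc_of% he', he]
  -- existence over the members of the covering
  have hW : ∀ ⦃W : Scheme.{u}⦄ (f : W ⟶ S), R f → ∃ g : pullback P.hom f ⟶ E.left,
      g ≫ v.left = pullback.fst P.hom f ∧
      ∀ (eW : W ⟶ pullback P.hom f), eW ≫ pullback.fst P.hom f = f ≫ e → eW ≫ pullback.snd P.hom f = 𝟙 W →
        eW ≫ g = f ≫ e' := by
    intro W f hf
    obtain ⟨Z, _, hZ, ⟨c⟩⟩ := hc f hf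
    obtain ⟨h1, h2⟩ := c.etale_surjective' (LocTriv.baseChange (isPullback_left f v) hloc)
    have hv1 : ((Over.pullback f).map v).left ≫ pullback.fst P.hom f = pullback.fst E.hom f ≫ v.left :=
      (isPullback_left f v).w.symm
    have hv2 : ((Over.pullback f).map v).left ≫ pullback.snd P.hom f = pullback.snd E.hom f :=
      Over.w ((Over.pullback f).map v)
    let p : ((Over.pullback f).obj P).left ⟶ W := pullback.snd P.hom f
    have i1 : Smooth p := inferInstanceAs (Smooth (pullback.snd P.hom f))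
    have i2 : QuasiCompact p := inferInstanceAs (QuasiCompact (pullback.snd P.hom f))
    have i3 : QuasiSeparated p := inferInstanceAs (QuasiSeparated (pullback.snd P.hom f))
    have i4 : GeometricallyConnected p := inferInstanceAs (GeometricallyConnected (pullback.snd P.hom f))
    let eW : W ⟶ ((Over.pullback f).obj P).left := pullback.lift (f ≫ e) (𝟙 W) (by
      rw [Category.assoc, he, Category.comp_id, Category.id_comp])
    let eW' : W ⟶ ((Over.pullback f).obj E).left := pullback.lift (f ≫ e') (𝟙 W) (by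
      rw [Category.assoc, he'E, Category.comp_id, Category.id_comp])
    have heW1 : eW ≫ pullback.fst P.hom f = f ≫ e := pullback.lift_fst _ _ _
    have heW2 : eW ≫ pullback.snd P.hom f = 𝟙 W := pullback.lift_snd _ _ _
    have heW'1 : eW' ≫ pullback.fst E.hom f = f ≫ e' := pullback.lift_fst _ _ _
    have heW'2 : eW' ≫ pullback.snd E.hom f = 𝟙 W := pullback.lift_snd _ _ _
    obtain ⟨g, hg1, hg2⟩ := c.exists_section_of_smooth hZ p eW heW2 eW' (by
      apply pullback.hom_ext (f := P.hom) (g := f)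
      · rw [Category.assoc, hv1, reassoc_of% heW'1, he', heW1]
      · rw [Category.assoc, hv2, heW'2, heW2])
    refine ⟨g ≫ pullback.fst E.hom f, ?_, ?_⟩
    · rw [Category.assoc, ← hv1, reassoc_of% hg1]
    · intro eW2 h3 h4
      have h5 : eW2 = eW := by
        apply pullback.hom_ext (f := P.hom) (g := f)
        · rw [h3, heW1]
        · rw [h4, heW2]
      rw [h5, reassoc_of% hg2, heW'1]
  choose g hg1 hg2 using hW
  -- uniqueness
  have huniq : ∀ {T W W' : Scheme.{u}} (f : W ⟶ S) (f' : W' ⟶ S) (hf : R f) (hf' : R f')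
      (a : T ⟶ pullback P.hom f) (b : T ⟶ pullback P.hom f'),
      a ≫ pullback.fst P.hom f = b ≫ pullback.fst P.hom f' → a ≫ g f hf = b ≫ g f' hf' := by
    intro T W W' f f' hf hf' a b hab
    let B := pullback f f'
    let t₀ : B ⟶ W := pullback.fst f f'
    let t₁ : B ⟶ W' := pullback.snd f f'
    have htt : t₀ ≫ f = t₁ ≫ f' := pullback.condition
    let Q := pullback P.hom (t₀ ≫ f)
    let a' : Q ⟶ pullback P.hom f := pullback.lift (pullback.fst _ _) (pullback.snd _ _ ≫ t₀) (by
      rw [Category.assoc]; exact pullback.condition)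
    let b' : Q ⟶ pullback P.hom f' := pullback.lift (pullback.fst _ _) (pullback.snd _ _ ≫ t₁) (by
      rw [Category.assoc, ← htt]; exact pullback.condition)
    have ha'1 : a' ≫ pullback.fst P.hom f = pullback.fst P.hom (t₀ ≫ f) := pullback.lift_fst _ _ _
    have ha'2 : a' ≫ pullback.snd P.hom f = pullback.snd P.hom (t₀ ≫ f) ≫ t₀ := pullback.lift_snd _ _ _
    have hb'1 : b' ≫ pullback.fst P.hom f' = pullback.fst P.hom (t₀ ≫ f) := pullback.lift_fst _ _ _
    have hb'2 : b' ≫ pullback.snd P.hom f' = pullback.snd P.hom (t₀ ≫ f) ≫ t₁ := pullback.lift_snd _ _ _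
    have key : a' ≫ g f hf = b' ≫ g f' hf' := by
      let eQ : B ⟶ Q := pullback.lift (t₀ ≫ f ≫ e) (𝟙 B) (by
        rw [Category.assoc, Category.assoc, he, Category.comp_id, Category.id_comp])
      have heQ1 : eQ ≫ pullback.fst P.hom (t₀ ≫ f) = t₀ ≫ f ≫ e := pullback.lift_fst _ _ _
      have heQ2 : eQ ≫ pullback.snd P.hom (t₀ ≫ f) = 𝟙 B := pullback.lift_snd _ _ _
      refine eq_of_constOver v (hc f hf) t₀ (pullback.snd P.hom (t₀ ≫ f)) eQ heQ2 _ _ ?_ ?_ ?_
      · rw [← Over.w v, Category.assoc, ← Category.assoc (g f hf), hg1, ← Category.assoc, ha'1]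
        exact pullback.condition
      · rw [Category.assoc, Category.assoc, hg1, hg1, ha'1, hb'1]
      · let eW : W ⟶ pullback P.hom f := pullback.lift (f ≫ e) (𝟙 W) (by
          rw [Category.assoc, he, Category.comp_id, Category.id_comp])
        let eW' : W' ⟶ pullback P.hom f' := pullback.lift (f' ≫ e) (𝟙 W') (by
          rw [Category.assoc, he, Category.comp_id, Category.id_comp])
        have h1 : eQ ≫ a' = t₀ ≫ eW := by
          apply pullback.hom_ext
          · rw [Category.assoc, ha'1, heQ1, Category.assoc, pullback.lift_fst]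
          · rw [Category.assoc, ha'2, reassoc_of% heQ2, Category.assoc, pullback.lift_snd, Category.comp_id]
        have h2 : eQ ≫ b' = t₁ ≫ eW' := by
          apply pullback.hom_ext
          · rw [Category.assoc, hb'1, heQ1, Category.assoc, pullback.lift_fst, reassoc_of% htt]
          · rw [Category.assoc, hb'2, reassoc_of% heQ2, Category.assoc, pullback.lift_snd, Category.comp_id]
        rw [← Category.assoc, h1, ← Category.assoc, h2, Category.assoc, Category.assoc,
          hg2 f hf eW (pullback.lift_fst _ _ _) (pullback.lift_snd _ _ _),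
          hg2 f' hf' eW' (pullback.lift_fst _ _ _) (pullback.lift_snd _ _ _), reassoc_of% htt]
    have hS : (a ≫ pullback.snd P.hom f) ≫ f = (b ≫ pullback.snd P.hom f') ≫ f' := by
      rw [Category.assoc, Category.assoc, ← pullback.condition, ← pullback.condition, ← Category.assoc,
        ← Category.assoc, hab]
    let w : T ⟶ B := pullback.lift (a ≫ pullback.snd P.hom f) (b ≫ pullback.snd P.hom f') hS
    have hw1 : w ≫ t₀ = a ≫ pullback.snd P.hom f := pullback.lift_fst _ _ _
    have hw2 : w ≫ t₁ = b ≫ pullback.snd P.hom f' := pullback.lift_snd _ _ _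
    let c : T ⟶ Q := pullback.lift (a ≫ pullback.fst P.hom f) w (by
      rw [reassoc_of% hw1, Category.assoc, pullback.condition])
    have hc1 : c ≫ pullback.fst P.hom (t₀ ≫ f) = a ≫ pullback.fst P.hom f := pullback.lift_fst _ _ _
    have hc2 : c ≫ pullback.snd P.hom (t₀ ≫ f) = w := pullback.lift_snd _ _ _
    have h1 : a = c ≫ a' := by
      apply pullback.hom_ext
      · rw [Category.assoc, ha'1, hc1]
      · rw [Category.assoc, ha'2, reassoc_of% hc2, hw1]
    have h2 : b = c ≫ b' := by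
      apply pullback.hom_ext
      · rw [Category.assoc, hb'1, hc1, hab]
      · rw [Category.assoc, hb'2, reassoc_of% hc2, hw2]
    rw [h1, h2, Category.assoc, Category.assoc, key]
  -- gluing
  have hRP := Precoverage.pullbackArrows_mem P.hom hR
  have hex : ∀ ⦃T : Scheme.{u}⦄ (t : T ⟶ P.left), R.pullbackArrows P.hom t →
      ∃ (W : Scheme.{u}) (f : W ⟶ S) (_ : R f) (a : T ⟶ pullback P.hom f), a ≫ pullback.fst P.hom f = t := by
    rintro T t ⟨W, f, hf⟩
    exact ⟨W, f, hf, (pullbackSymmetry f P.hom).hom, by simp⟩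
  choose W f hf a ha using hex
  have hsh := K996.LocSplit.isSheafFor (Z := E.left) hRP
  let x : Presieve.FamilyOfElements (yoneda.obj E.left) (R.pullbackArrows P.hom) :=
    fun T t ht => a t ht ≫ g (f t ht) (hf t ht)
  have hx : x.Compatible := by
    intro Y₁ Y₂ T g₁ g₂ f₁ f₂ h₁ h₂ hfg
    change g₁ ≫ a f₁ h₁ ≫ g (f f₁ h₁) (hf f₁ h₁) = g₂ ≫ a f₂ h₂ ≫ g (f f₂ h₂) (hf f₂ h₂)
    rw [← Category.assoc, ← Category.assoc]
    apply huniq
    rw [Category.assoc, Category.assoc, ha, ha, hfg]
  obtain ⟨s, hs⟩ : ∃ s : P.left ⟶ E.left, ∀ ⦃T : Scheme.{u}⦄ (t : T ⟶ P.left) (ht : R.pullbackArrows P.hom t),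
      t ≫ s = a t ht ≫ g (f t ht) (hf t ht) := ⟨hsh.amalgamate x hx, fun T t ht => hsh.valid_glue hx t ht⟩
  refine ⟨s, ?_, ?_⟩
  · refine (K996.LocSplit.isSheafFor (Z := P.left) hRP).isSeparatedFor.ext ?_
    intro T t ht
    change t ≫ s ≫ v.left = t ≫ 𝟙 _
    rw [← Category.assoc, hs t ht, Category.assoc, hg1, ha, Category.comp_id]
  · refine (K996.LocSplit.isSheafFor (Z := E.left) hR).isSeparatedFor.ext ?_
    intro W₁ f₁ hf₁
    change f₁ ≫ e ≫ s = f₁ ≫ e'
    have ht : R.pullbackArrows P.hom (pullback.snd f₁ P.hom) := ⟨_, f₁, hf₁⟩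
    let e₁ : W₁ ⟶ pullback f₁ P.hom := pullback.lift (𝟙 _) (f₁ ≫ e) (by
      rw [Category.assoc, he, Category.comp_id, Category.id_comp])
    have he₁ : e₁ ≫ pullback.snd f₁ P.hom = f₁ ≫ e := pullback.lift_snd _ _ _
    let e₂ : W₁ ⟶ pullback P.hom f₁ := pullback.lift (f₁ ≫ e) (𝟙 _) (by
      rw [Category.assoc, he, Category.comp_id, Category.id_comp])
    have he₂ : e₂ ≫ pullback.fst P.hom f₁ = f₁ ≫ e := pullback.lift_fst _ _ _
    rw [← Category.assoc, ← he₁, Category.assoc, hs _ ht, ← Category.assoc]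
    rw [huniq _ f₁ _ hf₁ (e₁ ≫ a _ ht) e₂ (by rw [Category.assoc, ha, he₁, he₂])]
    exact hg2 f₁ hf₁ e₂ he₂ (pullback.lift_snd _ _ _)

end K564.ExtTwisted
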