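import Groth.Agent.SGA7.K564.TorusPow
import Groth.Agent.Sga3B.AlgBc

/-!
# Homomorphisms from tori to a commutative group factor through the maximal torus; isogenies of tori
-/

set_option autoImplicit false
universe u

open CategoryTheory CategoryTheory.Limits MonoidalCategory CartesianMonoidalCategory MonObj GrpObj AlgebraicGeometry

namespace K564.TorusFactor

open Groth.Agent Groth.Agent.Sga3B Groth.Agent.Sga3B.ResAlg

variable {S : Scheme.{u}} (s : S) [Flat (Red.geomPt s)] [Surjective (Red.geomPt s)]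

theorem isCommMonObj_bc {S S' : Scheme.{u}} (f : S' ⟶ S) (G : Over S) [GrpObj G] [IsCommMonObj G] :
    IsCommMonObj (Red.bc f G) := inferInstance

include s in
theorem exists_factor [QuasiCompact (Red.geomPt s)] {G T R : Over S} [GrpObj G] [GrpObj T] [GrpObj R]
    [IsCommMonObj G] [LocallyOfFiniteType G.hom]
    (i : T ⟶ G) (hi : Red.IsMaximalTorus i) (j : R ⟶ G) [IsMonHom j] (hR : Red.IsTorus R) :
    ∃ w : R ⟶ T, IsMonHom w ∧ w ≫ i = j := by
  have i1 : IsMonHom i := hi.1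
  have i2 : Mono i := hi.2.1
  have h1 := AlgBc.isMaximalTorus_bc (Red.geomPt s) hi
  have h2 := TorusBc.isTorus_bc (Red.geomPt s) hR
  have h3 : IsCommMonObj (Red.bc (Red.geomPt s) G) := isCommMonObj_bc _ _
  have h4 : LocallyOfFiniteType (Red.bc (Red.geomPt s) G).hom :=
    inferInstanceAs (LocallyOfFiniteType (pullback.snd _ _))
  obtain ⟨f, hf⟩ := Sga3.H784.Commute.exists_factor_of_commute ((Over.pullback (Red.geomPt s)).map i) h1
    ((Over.pullback (Red.geomPt s)).map j) h2 (fun t r => mul_comm _ _)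
  obtain ⟨w, hw⟩ := Sga3B.Par.DynDesc383.exists_factor_of_bc (Red.geomPt s) j i ⟨f, hf⟩
  refine ⟨w, ExtAlg.isMonHom_of_mul w fun a b => ?_, hw⟩
  rw [← cancel_mono i, Category.assoc, hw, MonObj.mul_comp, MonObj.mul_comp, Category.assoc, Category.assoc, hw]

theorem map_id_pow {S S' : Scheme.{u}} (f : S' ⟶ S) (A : Over S) [GrpObj A] (n : ℕ) :
    (Over.pullback f).map ((𝟙 A : A ⟶ A) ^ n) = (𝟙 (Red.bc f A) : Red.bc f A ⟶ Red.bc f A) ^ n := by
  induction n with
  | zero => rw [pow_zero, pow_zero]; exact Functor.map_one _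
  | succ n ih =>
    rw [pow_succ, pow_succ, Functor.map_mul, ih, CategoryTheory.Functor.map_id]

include s in
/-- Multiplication by `n` on a torus is finite and surjective. -/
theorem isFinite_surjective_pow [QuasiCompact (Red.geomPt s)] {T : Over S} [GrpObj T] (hT : Red.IsTorus T)
    {n : ℕ} (hn : 0 < n) : IsFinite ((𝟙 T : T ⟶ T) ^ n).left ∧ Surjective ((𝟙 T : T ⟶ T) ^ n).left := by
  obtain ⟨r, ⟨e⟩⟩ := TorusAlgClosed.exists_isSplitTorusWith (TorusBc.isTorus_bc (Red.geomPt s) hT)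
  obtain ⟨h1, h2⟩ := TorusPow.isFinite_surjective_pow_DS
    (S := Spec (CommRingCat.of (AlgebraicClosure (S.residueField s)))) r hn
  let φ : Red.bc (Red.geomPt s) T ⟶ Red.DS _ (Fin r → ℤ) := e.hom.hom.hom
  let ψ : Red.DS _ (Fin r → ℤ) ⟶ Red.bc (Red.geomPt s) T := e.inv.hom.hom
  have hφ : IsMonHom φ := e.hom.hom.isMonHom_hom
  have e1 : φ ≫ ψ = 𝟙 _ := by
    have := congrArg (fun a => a.hom.hom) e.hom_inv_id
    exact this
  have e2 : ψ ≫ φ = 𝟙 _ := by
    have := congrArg (fun a => a.hom.hom) e.inv_hom_id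
    exact this
  have hi1 : IsIso φ := ⟨ψ, e1, e2⟩
  have hi2 : IsIso ψ := ⟨φ, e2, e1⟩
  have hl1 : IsIso φ.left := inferInstanceAs (IsIso ((Over.forget _).map φ))
  have hl2 : IsIso ψ.left := inferInstanceAs (IsIso ((Over.forget _).map ψ))
  have h3 : (Over.pullback (Red.geomPt s)).map ((𝟙 T : T ⟶ T) ^ n) =
      φ ≫ ((𝟙 (Red.DS _ (Fin r → ℤ)) : Red.DS _ (Fin r → ℤ) ⟶ Red.DS _ (Fin r → ℤ)) ^ n) ≫ ψ := by
    have h5 := MonObj.pow_comp (𝟙 (Red.bc (Red.geomPt s) T)) n φ
    rw [map_id_pow, ← Category.assoc, comp_pow, Category.comp_id, ← cancel_mono φ, Category.assoc, e2,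
      Category.comp_id, h5, Category.id_comp]
  have h4 := Sga3B.Par.DynDesc383.isPullback_map_left (Red.geomPt s) ((𝟙 T : T ⟶ T) ^ n)
  rw [h3, Over.comp_left, Over.comp_left] at h4
  have a1 : Surjective (pullback.fst T.hom (Red.geomPt s)) := inferInstance
  have a2 : Flat (pullback.fst T.hom (Red.geomPt s)) := inferInstance
  have a3 : QuasiCompact (pullback.fst T.hom (Red.geomPt s)) := inferInstance
  constructor
  · exact MorphismProperty.of_isPullback_of_descendsAlong (P := @IsFinite)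
      (Q := @Surjective ⊓ @Flat ⊓ @QuasiCompact) h4.flip ⟨⟨a1, a2⟩, a3⟩ inferInstance
  · exact MorphismProperty.of_isPullback_of_descendsAlong (P := @Surjective)
      (Q := @Surjective ⊓ @Flat ⊓ @QuasiCompact) h4.flip ⟨⟨a1, a2⟩, a3⟩ inferInstance

/-- Homomorphisms of tori whose composites are multiplication by `n > 0` are isogenies. -/
theorem isIsogeny [QuasiCompact (Red.geomPt s)] {T T' : Over S} [GrpObj T] [GrpObj T'] (hT : Red.IsTorus T)
    (hT' : Red.IsTorus T') (w : T ⟶ T') (w' : T' ⟶ T) [IsMonHom w] [IsMonHom w'] {n : ℕ} (hn : 0 < n)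
    (h : w ≫ w' = (𝟙 T : T ⟶ T) ^ n) (h' : w' ≫ w = (𝟙 T' : T' ⟶ T') ^ n) : SGA7.IsIsogenyOver w := by
  obtain ⟨h1, -⟩ := isFinite_surjective_pow s hT hn
  obtain ⟨-, h2⟩ := isFinite_surjective_pow s hT' hn
  refine ⟨?_, fun N i hi => ?_⟩
  · rw [← h', Over.comp_left] at h2
    exact Surjective.of_comp w'.left w.left
  · have hsep : IsAffineHom T'.hom := TorusAlgClosed.isAffineHom_of_isTorus hT'
    have hsep2 : IsAffineHom T.hom := TorusAlgClosed.isAffineHom_of_isTorus hT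
    have hη : ∀ (X : Over S) [GrpObj X] [IsSeparated X.hom], IsClosedImmersion (η[X] : 𝟙_ _ ⟶ X).left := by
      intro X _ _
      have h3 : (η[X] : 𝟙_ _ ⟶ X).left ≫ X.hom = 𝟙 S := Over.w (η[X] : 𝟙_ _ ⟶ X)
      have h4 : IsClosedImmersion ((η[X] : 𝟙_ _ ⟶ X).left ≫ X.hom) := by
        rw [h3]
        exact inferInstanceAs (IsClosedImmersion (𝟙 S))
      exact IsClosedImmersion.of_comp _ X.hom
    have h3 : IsPullback i.left (toUnit N).left w.left (η[T'] : 𝟙_ _ ⟶ T').left := hi.map (Over.forget S)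
    have h4 : IsClosedImmersion i.left := MorphismProperty.of_isPullback h3.flip (hη T')
    have h5 : i ≫ w = toUnit N ≫ η[T'] := hi.w
    have h6 : i ≫ (𝟙 T : T ⟶ T) ^ n = toUnit N ≫ η[T] := by
      rw [← h, ← Category.assoc, h5, Category.assoc, IsMonHom.one_hom]
    have h7 : i.left ≫ ((𝟙 T : T ⟶ T) ^ n).left = N.hom ≫ (η[T] : 𝟙_ _ ⟶ T).left := by
      rw [← Over.comp_left, h6, Over.comp_left]
      rfl
    have h8 : IsFinite (N.hom ≫ (η[T] : 𝟙_ _ ⟶ T).left) := by
      rw [← h7]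
      infer_instance
    have h9 : IsClosedImmersion (η[T] : 𝟙_ _ ⟶ T).left := hη T
    exact IsFinite.of_comp N.hom (η[T] : 𝟙_ _ ⟶ T).left

end K564.TorusFactor
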