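import Groth.Agent.Sga3.H778.SecNbhd
import Mathlib.Topology.Spectral.Prespectral
import Mathlib.AlgebraicGeometry.Morphisms.QuasiSeparated

/-!
# Section components of smooth quasi-separated morphisms whose section components are fibrewise compact
-/

set_option autoImplicit false
universe u

open CategoryTheory CategoryTheory.Limits AlgebraicGeometry

namespace K564.SecComp

open Groth.Agent.Sga3.H778.SecNbhd

theorem isOpen_sectionComponents_of_isCompact {X S : Scheme.{u}} (f : X ⟶ S) [Smooth f] [QuasiSeparated f]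
    (s : S ⟶ X) (hs : s ≫ f = 𝟙 S)
    (hc : ∀ y : S, IsCompact (connectedComponentIn (f ⁻¹' {y}) (s y))) :
    IsOpen (MoreMor.sectionComponents f s) := by
  have hsf : ∀ y : S, f (s y) = y := fun y => by rw [← Scheme.Hom.comp_apply, hs]; rfl
  rw [isOpen_iff_forall_mem_open]
  intro x hx
  have hx' : x ∈ connectedComponentIn (f ⁻¹' {f x}) (s (f x)) := hx
  set y := f x with hy
  obtain ⟨S1, hS1, hyS1⟩ : ∃ S1 : S.Opens, IsAffineOpen S1 ∧ y ∈ S1 := by
    obtain ⟨_, ⟨S1, hS1, rfl⟩, hyS1, -⟩ := S.isBasis_affineOpens.exists_subset_of_mem_open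
      (Set.mem_univ y) isOpen_univ
    exact ⟨S1, hS1, hyS1⟩
  set K := connectedComponentIn (f ⁻¹' {y}) (s y) with hK
  have hKf : ∀ w ∈ K, f w = y := fun w hw => by
    have h := connectedComponentIn_subset (f ⁻¹' {y}) (s y) hw
    exact h
  obtain ⟨V', hVc, hVo, hKV, hVS1⟩ := PrespectralSpace.exists_isCompact_and_isOpen_between (hc y)
    (f ⁻¹ᵁ S1).2 (fun w hw => by
      change f w ∈ S1
      rw [hKf w hw]; exact hyS1)
  let V : X.Opens := ⟨V', hVo⟩
  have hsK : s y ∈ K := mem_connectedComponentIn (hsf y)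
  have hsV : s y ∈ V := hKV hsK
  obtain ⟨S2, hS2, hyS2, hS2'⟩ : ∃ S2 : S.Opens, IsAffineOpen S2 ∧ y ∈ S2 ∧ S2 ≤ S1 ⊓ s ⁻¹ᵁ V := by
    obtain ⟨_, ⟨S2, hS2, rfl⟩, hyS2, hS2'⟩ := S.isBasis_affineOpens.exists_subset_of_mem_open
      (show y ∈ ((S1 ⊓ s ⁻¹ᵁ V : S.Opens) : Set S) from ⟨hyS1, hsV⟩) (S1 ⊓ s ⁻¹ᵁ V).2
    exact ⟨S2, hS2, hyS2, hS2'⟩
  have hS21 : S2 ≤ S1 := fun z hz => (hS2' hz).1
  have hS2V : ∀ z ∈ S2, s z ∈ V := fun z hz => (hS2' hz).2
  let V2 : X.Opens := V ⊓ f ⁻¹ᵁ S2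
  let g : V2.toScheme ⟶ S2.toScheme := f.resLE S2 V2 inf_le_right
  have hgι : g ≫ S2.ι = V2.ι ≫ f := Scheme.Hom.resLE_comp_ι f _
  have hg1 : ∀ w : V2.toScheme, S2.ι (g w) = f (V2.ι w) := fun w => by
    have := congrArg (fun h => h w) hgι
    exact this
  -- quasi-compactness
  have hV2c : IsCompact (V2 : Set X) := by
    let gV : V.toScheme ⟶ S1.toScheme := f.resLE S1 V hVS1
    have hV1 : CompactSpace V.toScheme := isCompact_iff_compactSpace.1 hVc
    have hS1' : IsAffine S1.toScheme := hS1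
    have hqc : QuasiCompact gV := (HasAffineProperty.iff_of_isAffine (P := @QuasiCompact)).2 hV1
    have h1 : IsCompact (S1.ι ⁻¹' (S2 : Set S)) := by
      rw [S1.ι.isOpenEmbedding.isInducing.isCompact_iff, Set.image_preimage_eq_inter_range]
      rw [Scheme.Opens.range_ι, Set.inter_eq_left.2 hS21]
      exact hS2.isCompact
    have h2 : IsCompact (gV ⁻¹' (S1.ι ⁻¹' (S2 : Set S))) :=
      QuasiCompact.isCompact_preimage (f := gV) _ (S2.2.preimage S1.ι.continuous) h1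
    have h3 := h2.image V.ι.continuous
    have h4 : V.ι '' (gV ⁻¹' (S1.ι ⁻¹' (S2 : Set S))) = (V2 : Set X) := by
      have h5 : ∀ w : V, S1.ι (gV w) = f w := fun w => by
        have := congrArg (fun h => h w) (Scheme.Hom.resLE_comp_ι f (U := S1) (V := V) hVS1)
        exact this
      ext w
      constructor
      · rintro ⟨w, hw, rfl⟩
        exact ⟨w.2, by
          change S1.ι (gV w) ∈ S2 at hw
          rw [h5] at hw
          exact hw⟩
      · rintro ⟨hw1, hw2⟩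
        refine ⟨⟨w, hw1⟩, ?_, rfl⟩
        change S1.ι (gV ⟨w, hw1⟩) ∈ S2
        rw [h5]
        exact hw2
    rw [h4] at h3
    exact h3
  have hg2 : QuasiCompact g := by
    have hV1 : CompactSpace V2.toScheme := isCompact_iff_compactSpace.1 hV2c
    have hS1' : IsAffine S2.toScheme := hS2
    exact (HasAffineProperty.iff_of_isAffine (P := @QuasiCompact)).2 hV1
  have hr : Set.range (S2.ι ≫ s) ⊆ Set.range V2.ι := by
    rintro _ ⟨z, rfl⟩
    refine ⟨⟨s (S2.ι z), hS2V _ z.2, ?_⟩, rfl⟩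
    change f (s (S2.ι z)) ∈ S2
    rw [hsf]
    exact z.2
  let t : S2.toScheme ⟶ V2.toScheme := IsOpenImmersion.lift V2.ι (S2.ι ≫ s) hr
  have ht : t ≫ V2.ι = S2.ι ≫ s := IsOpenImmersion.lift_fac _ _ _
  have htg : t ≫ g = 𝟙 _ := by
    rw [← cancel_mono S2.ι, Category.assoc, hgι, reassoc_of% ht, hs, Category.comp_id, Category.id_comp]
  have hopen := isOpen_sectionComponents g t htg
  have hsub := sectionComponents_subset_preimage f s g t V2.ι S2.ι hgι.symm ht htg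
  have hxV2 : x ∈ V2 := ⟨hKV hx', hyS2⟩
  refine ⟨V2.ι '' MoreMor.sectionComponents g t, ?_, V2.ι.isOpenEmbedding.isOpenMap _ hopen,
    ⟨⟨x, hxV2⟩, ?_, rfl⟩⟩
  · rintro _ ⟨w, hw, rfl⟩
    exact hsub hw
  · change (⟨x, hxV2⟩ : V2) ∈ connectedComponentIn (g ⁻¹' {g ⟨x, hxV2⟩}) (t (g ⟨x, hxV2⟩))
    have hK2 : _root_.IsPreconnected (V2.ι ⁻¹' K) := by
      refine isPreconnected_connectedComponentIn.preimage_of_isOpenMap V2.ι.isOpenEmbedding.injective
        V2.ι.isOpenEmbedding.isOpenMap ?_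
      intro w hw
      exact ⟨⟨w, hKV hw, by change f w ∈ S2; rw [hKf w hw]; exact hyS2⟩, rfl⟩
    have hgx : S2.ι (g ⟨x, hxV2⟩) = y := hg1 _
    refine hK2.subset_connectedComponentIn ?_ ?_ hx'
    · change V2.ι (t (g ⟨x, hxV2⟩)) ∈ K
      rw [← Scheme.Hom.comp_apply, ht, Scheme.Hom.comp_apply, hgx]
      exact hsK
    · intro w hw
      change g w = g ⟨x, hxV2⟩
      apply S2.ι.isOpenEmbedding.injective
      rw [hgx, hg1]
      exact hKf _ hw

end K564.SecComp
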