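import Groth.Agent.SGA7.K564.CTBasic
import Groth.Agent.SGA7.K564.SecComp
import Mathlib.AlgebraicGeometry.Geometrically.Connected
import Mathlib.AlgebraicGeometry.Morphisms.ClosedImmersion

/-!
# Torsors under constant groups over a smooth `P → S` with geometrically connected fibres: triviality and fibres
-/

set_option autoImplicit false
universe u

open CategoryTheory CategoryTheory.Limits AlgebraicGeometry

namespace K564.ConstTors.CT

variable {E P S : Scheme.{u}} {q : E ⟶ P} {Z : Type u} [Group Z] (c : CT q Z)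

theorem isClopen_of_dec {T : Scheme.{u}} {V : Z → T.Opens} (h1 : ∀ t : T, ∃! z, t ∈ V z) (z : Z) :
    IsClopen (V z : Set T) := by
  refine ⟨?_, (V z).2⟩
  have h : (V z : Set T)ᶜ = ⋃ w : {w : Z // w ≠ z}, (V w.1 : Set T) := by
    ext t
    simp only [Set.mem_compl_iff, SetLike.mem_coe, Set.mem_iUnion, Subtype.exists, exists_prop]
    obtain ⟨w, hw, hw'⟩ := h1 t
    constructor
    · intro ht
      refine ⟨w, ?_, hw⟩
      rintro rfl
      exact ht hw
    · rintro ⟨w', hw'z, ht'⟩ ht
      exact hw'z ((hw' _ ht').trans (hw' _ ht).symm)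
  rw [← isOpen_compl_iff, h]
  exact isOpen_iUnion fun w => (V w.1).2

include c in
theorem isSeparated : IsSeparated q := by
  obtain ⟨V, h1, h2⟩ := c.dec (pullback.fst q q) (pullback.snd q q) pullback.condition
  have hr : Set.range (pullback.diagonal q) = (V 1 : Set ↥(pullback q q)) := by
    ext t
    constructor
    · rintro ⟨e, rfl⟩
      exact c.mem_of_comp h1 h2 (pullback.diagonal q) 1 (by
        rw [pullback.diagonal_snd, pullback.diagonal_fst_assoc, c.ρ_one]) e
    · intro ht
      have h3 := h2 1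
      rw [c.ρ_one, Category.comp_id] at h3
      have h4 : (V 1).ι = (V 1).ι ≫ pullback.fst q q ≫ pullback.diagonal q := by
        apply pullback.hom_ext
        · rw [Category.assoc, Category.assoc, pullback.diagonal_fst, Category.comp_id]
        · rw [Category.assoc, Category.assoc, pullback.diagonal_snd, Category.comp_id, h3]
      have h5 := congrArg (fun f => f ⟨t, ht⟩) h4
      exact ⟨pullback.fst q q t, h5.symm⟩
  constructor
  apply IsClosedImmersion.of_isPreimmersion
  rw [hr]
  exact (isClopen_of_dec h1 1).1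

section Fibre

variable (p : P ⟶ S)

include c in
/-- The fibres of a torsor with a section over the fibre of `P`. -/
theorem exists_component {T0 : Scheme.{u}} (k : T0 ⟶ S) [IsPreimmersion k] (s : S) (hrk : Set.range k = {s})
    [hconn : ConnectedSpace ↥(pullback p k)] (σ : pullback p k ⟶ E)
    (hσ : σ ≫ q = pullback.fst p k) (w0 : E) (hw0 : (q ≫ p) w0 = s) :
    ∃ σ' : pullback p k ⟶ E,
      σ' ≫ q = pullback.fst p k ∧
      connectedComponentIn ((q ≫ p) ⁻¹' {s}) w0 = Set.range σ' ∧
      ∀ e : E, e ∈ Set.range σ' → ∀ z, c.ρ z e ∈ Set.range σ' → z = 1 := by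
  let a : pullback (q ≫ p) k ⟶ E := pullback.fst (q ≫ p) k
  have hra : Set.range a = (q ≫ p) ⁻¹' {s} := by
    rw [← hrk]; exact Scheme.Pullback.range_fst _ _
  have hemb : Topology.IsEmbedding a := a.isEmbedding
  let b : pullback (q ≫ p) k ⟶ pullback p k := pullback.lift (a ≫ q) (pullback.snd _ _) (by
    rw [Category.assoc]; exact pullback.condition)
  have hb1 : b ≫ pullback.fst p k = a ≫ q := pullback.lift_fst _ _ _
  have hb2 : b ≫ pullback.snd p k = pullback.snd _ _ := pullback.lift_snd _ _ _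
  obtain ⟨t0, ht0⟩ : w0 ∈ Set.range a := by rw [hra]; exact hw0
  obtain ⟨V, h1, h2⟩ := c.dec a (b ≫ σ) (by rw [Category.assoc, hσ, hb1])
  obtain ⟨z0, hz0, -⟩ := h1 t0
  let σ' : pullback p k ⟶ E := σ ≫ c.ρ z0⁻¹
  have hσ' : σ' ≫ q = pullback.fst p k := by rw [Category.assoc, c.ρ_q, hσ]
  have hσ'2 : σ' ≫ c.ρ z0 = σ := by rw [Category.assoc, c.comp_ρ_inv, Category.comp_id]
  -- the image of `V z0`
  have himg : a '' (V z0 : Set ↥(pullback (q ≫ p) k)) = Set.range σ' := by
    ext w
    constructor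
    · rintro ⟨t, ht, rfl⟩
      have h3 : σ (b t) = c.ρ z0 (a t) := congrArg (fun f => f ⟨t, ht⟩) (h2 z0)
      refine ⟨b t, ?_⟩
      change c.ρ z0⁻¹ (σ (b t)) = a t
      rw [h3, c.ρ_inv_apply]
    · rintro ⟨p', rfl⟩
      let j : pullback p k ⟶ pullback (q ≫ p) k := pullback.lift σ' (pullback.snd p k) (by
        rw [reassoc_of% hσ']; exact pullback.condition)
      have hj1 : j ≫ a = σ' := pullback.lift_fst _ _ _
      have hj2 : j ≫ b = 𝟙 _ := by
        apply pullback.hom_ext
        · rw [Category.assoc, hb1, reassoc_of% hj1, hσ', Category.id_comp]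
        · rw [Category.assoc, hb2, Category.id_comp]; exact pullback.lift_snd _ _ _
      have h3 := c.mem_of_comp h1 h2 j z0 (by
        rw [reassoc_of% hj2, reassoc_of% hj1, hσ'2]) p'
      refine ⟨j p', h3, ?_⟩
      rw [← Scheme.Hom.comp_apply, hj1]
  refine ⟨σ', hσ', ?_, ?_⟩
  · apply Set.Subset.antisymm
    · have hsub : connectedComponentIn ((q ≫ p) ⁻¹' {s}) w0 ⊆ Set.range a := by
        rw [hra]; exact connectedComponentIn_subset _ _
      have hpre : _root_.IsPreconnected (a ⁻¹' connectedComponentIn ((q ≫ p) ⁻¹' {s}) w0) := by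
        rw [← hemb.isInducing.isPreconnected_image, Set.image_preimage_eq_inter_range,
          Set.inter_eq_left.2 hsub]
        exact isPreconnected_connectedComponentIn
      have h3 := hpre.subset_isClopen (isClopen_of_dec h1 z0) ⟨t0, by
        rw [Set.mem_preimage, ht0]
        exact mem_connectedComponentIn hw0, hz0⟩
      rw [← himg]
      intro w hw
      obtain ⟨t, rfl⟩ := hsub hw
      exact ⟨t, h3 hw, rfl⟩
    · refine (isPreconnected_range σ'.continuous).subset_connectedComponentIn ?_ ?_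
      · rw [← himg]; exact ⟨t0, hz0, ht0⟩
      · rw [← himg, ← hra]
        exact Set.image_subset_range _ _
  · rw [← himg]
    rintro _ ⟨t, ht, rfl⟩ z ⟨t', ht', htt'⟩
    let r : pullback (q ≫ p) k ⟶ pullback (q ≫ p) k := pullback.lift (a ≫ c.ρ z) (pullback.snd _ _) (by
      rw [Category.assoc, ← Category.assoc (c.ρ z), c.ρ_q]; exact pullback.condition)
    have hr1 : r ≫ a = a ≫ c.ρ z := pullback.lift_fst _ _ _
    have hr2 : r ≫ b = b := by
      apply pullback.hom_ext
      · rw [Category.assoc, hb1, reassoc_of% hr1, c.ρ_q]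
      · rw [Category.assoc, hb2]; exact pullback.lift_snd _ _ _
    have hrt : r t = t' := by
      apply hemb.injective
      rw [htt', ← Scheme.Hom.comp_apply, hr1]; rfl
    let W : (pullback (q ≫ p) k).Opens := r ⁻¹ᵁ V z0
    have hWt : t ∈ W := by
      change r t ∈ V z0
      rw [hrt]; exact ht'
    have hrange : Set.range (W.ι ≫ r) ⊆ Set.range (V z0).ι := by
      rintro _ ⟨x, rfl⟩
      exact ⟨⟨r (W.ι x), x.2⟩, rfl⟩
    let l : W.toScheme ⟶ (V z0).toScheme := IsOpenImmersion.lift (V z0).ι (W.ι ≫ r) hrange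
    have hl : l ≫ (V z0).ι = W.ι ≫ r := IsOpenImmersion.lift_fac _ _ _
    have h3 := c.mem_of_comp h1 h2 W.ι (z0 * z) (by
      have h4 := congrArg (fun f => l ≫ f) (h2 z0)
      simp only [reassoc_of% hl] at h4
      rw [reassoc_of% hr2, reassoc_of% hr1] at h4
      rw [h4, c.ρ_mul]) ⟨t, hWt⟩
    have h5 : z0 * z = z0 := (h1 t).unique h3 ht
    simpa using h5

end Fibre

section Main

variable (p : P ⟶ S) [GeometricallyConnected p] (e : S ⟶ P) (he : e ≫ p = 𝟙 S)

include c he in
/-- Sections agreeing along `e` agree. -/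
theorem section_unique (g g' : P ⟶ E) (hg : g ≫ q = 𝟙 P) (hg' : g' ≫ q = 𝟙 P) (h : e ≫ g = e ≫ g') :
    g = g' := by
  obtain ⟨V, h1, h2⟩ := c.dec g g' (by rw [hg, hg'])
  have htop : V 1 = ⊤ := by
    rw [eq_top_iff]
    intro x _
    have hpre := (p.isConnected_preimage_singleton (p x)).isPreconnected
    refine hpre.subset_isClopen (isClopen_of_dec h1 1) ⟨e (p x), ?_, ?_⟩ rfl
    · change p (e (p x)) = p x
      rw [← Scheme.Hom.comp_apply e, he]; rfl
    · exact c.mem_of_comp h1 h2 e 1 (by rw [c.ρ_one, Category.comp_id, h]) (p x)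
  have h3 := h2 1
  rw [c.ρ_one, Category.comp_id] at h3
  have hι : IsIso (V 1).ι := by
    rw [htop]; exact inferInstanceAs (IsIso (Scheme.topIso _).hom)
  rw [cancel_epi] at h3
  exact h3.symm

include c he in
/-- Triviality on the fibres implies triviality. -/
theorem exists_section_of_fibres [Smooth p] [QuasiCompact p] [QuasiSeparated p] [Etale q]
    (e' : S ⟶ E) (he' : e' ≫ q = e)
    (hfib : ∀ s : S, ∃ σ : pullback p (S.fromSpecResidueField s) ⟶ E,
      σ ≫ q = pullback.fst p (S.fromSpecResidueField s)) :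
    ∃ g : P ⟶ E, g ≫ q = 𝟙 P ∧ e ≫ g = e' := by
  have hsep : IsSeparated q := c.isSeparated
  have hsec : e' ≫ (q ≫ p) = 𝟙 S := by rw [reassoc_of% he', he]
  have hsec' : ∀ s : S, (q ≫ p) (e' s) = s := fun s => by
    rw [← Scheme.Hom.comp_apply, hsec]; rfl
  have hfib' : ∀ s : S, ∃ σ' : pullback p (S.fromSpecResidueField s) ⟶ E,
      σ' ≫ q = pullback.fst p (S.fromSpecResidueField s) ∧
      connectedComponentIn ((q ≫ p) ⁻¹' {s}) (e' s) = Set.range σ' ∧
      ∀ e : E, e ∈ Set.range σ' → ∀ z, c.ρ z e ∈ Set.range σ' → z = 1 := fun s => by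
    obtain ⟨σ, hσ⟩ := hfib s
    have : ConnectedSpace ↥(pullback p (S.fromSpecResidueField s)) :=
      inferInstanceAs (ConnectedSpace (p.fiber s))
    exact c.exists_component p (S.fromSpecResidueField s) s (Scheme.range_fromSpecResidueField s)
      σ hσ (e' s) (hsec' s)
  have hopen : IsOpen (MoreMor.sectionComponents (q ≫ p) e') := by
    refine SecComp.isOpen_sectionComponents_of_isCompact (q ≫ p) e' hsec (fun s => ?_)
    obtain ⟨σ', -, h, -⟩ := hfib' s
    rw [h]
    have : CompactSpace ↥(pullback p (S.fromSpecResidueField s)) := inferInstance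
    exact isCompact_range σ'.continuous
  let U : E.Opens := ⟨_, hopen⟩
  have hU : ∀ w : E, w ∈ U ↔ w ∈ connectedComponentIn ((q ≫ p) ⁻¹' {(q ≫ p) w}) (e' ((q ≫ p) w)) :=
    fun w => Iff.rfl
  have hU2 : ∀ w : E, w ∈ U → ∀ z, c.ρ z w ∈ U → z = 1 := by
    intro w hw z hz
    rw [hU] at hw hz
    have h3 : (q ≫ p) (c.ρ z w) = (q ≫ p) w := by
      rw [Scheme.Hom.comp_apply, c.q_ρ_apply]; rfl
    rw [h3] at hz
    obtain ⟨σ', -, h, h4⟩ := hfib' ((q ≫ p) w)
    rw [h] at hw hz
    exact h4 w hw z hz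
  obtain ⟨g, hg, hgU⟩ := c.exists_section_of_open U (fun x => by
    obtain ⟨σ', h0, h, h4⟩ := hfib' (p x)
    obtain ⟨x', hx'⟩ : x ∈ Set.range (pullback.fst p (S.fromSpecResidueField (p x))) := by
      rw [Scheme.Pullback.range_fst, Scheme.range_fromSpecResidueField]; rfl
    have hx : q (σ' x') = x := by
      rw [← Scheme.Hom.comp_apply, h0, hx']
    refine ⟨σ' x', ?_, hx⟩
    rw [hU, Scheme.Hom.comp_apply, hx, h]
    exact ⟨x', rfl⟩) hU2
  refine ⟨g, hg, ?_⟩
  obtain ⟨V, h1, h2⟩ := c.dec (e ≫ g) e' (by rw [Category.assoc, hg, he', Category.comp_id])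
  have htop : V 1 = ⊤ := by
    rw [eq_top_iff]
    intro s _
    obtain ⟨z, hz, -⟩ := h1 s
    have h3 : e' s = c.ρ z (g (e s)) := congrArg (fun f => f ⟨s, hz⟩) (h2 z)
    have h4 : z = 1 := by
      refine hU2 (g (e s)) (hgU _) z ?_
      rw [← h3, hU, hsec']
      exact mem_connectedComponentIn (hsec' s)
    rw [h4] at hz
    exact hz
  have h3 := h2 1
  rw [c.ρ_one, Category.comp_id] at h3
  have hι : IsIso (V 1).ι := by
    rw [htop]; exact inferInstanceAs (IsIso (Scheme.topIso _).hom)
  rw [cancel_epi] at h3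
  exact h3.symm

end Main

end K564.ConstTors.CT
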