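import Groth.Agent.UnramB.SmoothUnibranch
import Groth.Agent.Flat2G.EtUnibranchSch
import Groth.Agent.S1148
import Groth.Agent.CalgC.GeomUnibranchAscend
import Mathlib.AlgebraicGeometry.Morphisms.Smooth
import Mathlib.AlgebraicGeometry.Morphisms.Preimmersion
import Mathlib.AlgebraicGeometry.Morphisms.UniversallyOpen
import Mathlib.AlgebraicGeometry.PullbackCarrier
import Mathlib.RingTheory.Spectrum.Prime.Homeomorph

/-!
# Smooth schemes over an irreducible geometrically unibranch base: the irreducible components are open and disjoint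
-/

set_option autoImplicit false
universe u

open CategoryTheory CategoryTheory.Limits AlgebraicGeometry

namespace K564.SmoothUnibr

open Groth.Agent.Flat2G.EtUnibranchSch Groth.Agent.Flat2G

theorem exists_generic_of_isDomain {X : Scheme.{u}} (x : X) (h : IsDomain (X.presheaf.stalk x)) :
    ∃ z : X, ∀ y : X, y ⤳ x → z ⤳ y := by
  let ν : Spec (X.presheaf.stalk x) := (⊥ : PrimeSpectrum (X.presheaf.stalk x))
  refine ⟨X.fromSpecStalk x ν, fun y hy ↦ ?_⟩
  obtain ⟨y', rfl⟩ : y ∈ Set.range (X.fromSpecStalk x) := by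
    rw [Scheme.range_fromSpecStalk]; exact hy
  have h1 : ν ⤳ y' := (PrimeSpectrum.le_iff_specializes _ _).mp bot_le
  exact h1.map (X.fromSpecStalk x).continuous

/-- The stalk of a smooth scheme over the spectrum of a geometrically unibranch local domain at a point of the closed
fibre is a domain. -/
theorem isDomain_stalk {A : Type u} [CommRing A] [IsDomain A] [IsLocalRing A] (hA : CAlg2.IsGeomUnibranch A)
    {X : Scheme.{u}} (f : X ⟶ Spec (CommRingCat.of A)) [Smooth f] (x : X) (hx : f x = IsLocalRing.closedPoint A) :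
    IsDomain (X.presheaf.stalk x) := by
  obtain ⟨_, ⟨W, hW, rfl⟩, hxW, -⟩ := X.isBasis_affineOpens.exists_subset_of_mem_open
    (Set.mem_univ x) isOpen_univ
  let φ : CommRingCat.of A ⟶ Γ(X, W) := Spec.preimage (hW.fromSpec ≫ f)
  have hφ : Spec.map φ = hW.fromSpec ≫ f := Spec.map_preimage _
  have hsm : φ.hom.Smooth := by
    rw [← HasRingHomProperty.Spec_iff (P := @Smooth), hφ]
    infer_instance
  algebraize [φ.hom]
  let p := hW.primeIdealOf ⟨x, hxW⟩
  have hp : hW.fromSpec p = x := hW.fromSpec_primeIdealOf ⟨x, hxW⟩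
  have hcomap : p.asIdeal.comap (algebraMap A Γ(X, W)) = IsLocalRing.maximalIdeal A := by
    have h1 : Spec.map φ p = IsLocalRing.closedPoint A := by
      rw [hφ, Scheme.Hom.comp_apply, hp, hx]
    exact congrArg PrimeSpectrum.asIdeal h1
  have h2 := Groth.Agent.UnramB.SmoothUnibranch.isDomain_localization_of_smooth_geomUnibranch hA p.asIdeal hcomap
  exact (stalkEquiv hW x hxW).toMulEquiv.isDomain _

/-- Every point of a smooth scheme over a geometrically unibranch scheme has a most generic generization. -/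
theorem exists_generic {X S : Scheme.{u}} (f : X ⟶ S) [Smooth f] (x : X)
    (h : CAlg2.IsGeomUnibranch (S.presheaf.stalk (f x))) : ∃ z : X, ∀ y : X, y ⤳ x → z ⤳ y := by
  let A := S.presheaf.stalk (f x)
  have hdom : IsDomain (CAlg2.red A) := h.1.1
  have hloc : IsLocalRing (CAlg2.red A) :=
    IsLocalRing.of_surjective' (Ideal.Quotient.mk (nilradical A)) Ideal.Quotient.mk_surjective
  have hred : CAlg2.IsGeomUnibranch (CAlg2.red A) :=
    Groth.Agent.CalgC.GeomUnibranchAscend.isGeomUnibranch_red A h
  let π : Spec (CommRingCat.of (CAlg2.red A)) ⟶ Spec A :=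
    Spec.map (CommRingCat.ofHom (Ideal.Quotient.mk (nilradical A)))
  have hπ : IsClosedImmersion π := IsClosedImmersion.spec_of_surjective _ Ideal.Quotient.mk_surjective
  let t : Spec (CommRingCat.of (CAlg2.red A)) ⟶ S := π ≫ S.fromSpecStalk (f x)
  have ht : IsPreimmersion t := inferInstance
  have hπs : Function.Surjective π := by
    have h1 := (PrimeSpectrum.isHomeomorph_comap (Ideal.Quotient.mk (nilradical A))
      (fun y => ⟨1, one_pos, by rw [pow_one]; exact Ideal.Quotient.mk_surjective y⟩)
      (by rw [Ideal.mk_ker])).surjective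
    exact h1
  have hrange : Set.range t = {y | y ⤳ f x} := by
    have : Set.range t = S.fromSpecStalk (f x) '' Set.range π := by
      rw [← Set.range_comp]; rfl
    rw [this, hπs.range_eq, Set.image_univ, Scheme.range_fromSpecStalk]
  have hclosed : t (IsLocalRing.closedPoint (CAlg2.red A)) = f x := by
    have h1 : π (IsLocalRing.closedPoint (CAlg2.red A)) = IsLocalRing.closedPoint A := by
      have hl : IsLocalHom (Ideal.Quotient.mk (nilradical A)) :=
        IsLocalHom.of_surjective _ Ideal.Quotient.mk_surjective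
      exact PrimeSpectrum.ext (IsLocalRing.maximalIdeal_comap (Ideal.Quotient.mk (nilradical A)))
    rw [Scheme.Hom.comp_apply, h1, Scheme.fromSpecStalk_closedPoint]
  obtain ⟨x', hx'1, hx'2⟩ := Scheme.Pullback.exists_preimage_pullback (f := f) (g := t) x
    (IsLocalRing.closedPoint (CAlg2.red A)) hclosed.symm
  have hd : IsDomain ((pullback f t).presheaf.stalk x') := isDomain_stalk hred (pullback.snd f t) x' hx'2
  obtain ⟨z, hz⟩ := exists_generic_of_isDomain x' hd
  refine ⟨pullback.fst f t z, fun y hy => ?_⟩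
  have hy1 : y ∈ Set.range (pullback.fst f t) := by
    rw [Scheme.Pullback.range_fst, hrange]
    exact hy.map f.continuous
  obtain ⟨y', rfl⟩ := hy1
  have hemb := (pullback.fst f t).isEmbedding
  rw [← hx'1] at hy
  have hy2 : y' ⤳ x' := hemb.isInducing.specializes_iff.1 hy
  exact (hz y' hy2).map (pullback.fst f t).continuous

/-- topological lemma -/
theorem isOpen_specializes_of_finite {W : Type*} [TopologicalSpace W] [QuasiSober W] [T0Space W]
    (hfin : (irreducibleComponents W).Finite) (huniq : ∀ w : W, ∃ z : W, ∀ y : W, y ⤳ w → z ⤳ y)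
    (e : W) (he : ∀ y : W, y ⤳ e → y = e) : IsOpen {w : W | e ⤳ w} := by
  have hcl : IsClosed (⋃₀ {T | T ∈ irreducibleComponents W ∧ e ∉ T}) := by
    rw [Set.sUnion_eq_biUnion]
    refine Set.Finite.isClosed_biUnion (hfin.subset fun T hT => hT.1) ?_
    rintro T ⟨hT, -⟩
    exact isClosed_of_mem_irreducibleComponents T hT
  have heq : {w : W | e ⤳ w} = (⋃₀ {T | T ∈ irreducibleComponents W ∧ e ∉ T})ᶜ := by
    ext w
    simp only [Set.mem_ofPred_eq, Set.mem_compl_iff, Set.mem_sUnion, not_exists, not_and]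
    constructor
    · rintro hew T ⟨hT, heT⟩ hwT
      obtain ⟨τ, hτ⟩ := QuasiSober.sober hT.1 (isClosed_of_mem_irreducibleComponents T hT)
      have hτw : τ ⤳ w := hτ.specializes hwT
      obtain ⟨z, hz⟩ := huniq w
      have hze : z = e := he z (hz e hew)
      have heτ : e ⤳ τ := hze ▸ hz τ hτw
      apply heT
      have h1 : T ⊆ closure {e} := by
        rw [← hτ.def]
        exact isClosed_closure.closure_subset_iff.2
          (Set.singleton_subset_iff.2 (specializes_iff_mem_closure.1 heτ))
      have h2 := hT.2 isIrreducible_singleton.closure h1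
      exact h2 (subset_closure rfl)
    · intro h
      have hw := mem_irreducibleComponent (x := w)
      have hmem := irreducibleComponent_mem_irreducibleComponents w
      have h1 : e ∈ irreducibleComponent w := by
        by_contra hcon
        exact h _ ⟨hmem, hcon⟩ hw
      obtain ⟨τ, hτ⟩ := QuasiSober.sober hmem.1 (isClosed_of_mem_irreducibleComponents _ hmem)
      have h2 : τ = e := he τ (hτ.specializes h1)
      rw [← h2]
      exact hτ.specializes hw
  rw [heq]
  exact hcl.isOpen_compl

/-- In a smooth scheme over an irreducible scheme in which every point has a most generic generization, the set of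
specializations of a maximal point is open. -/
theorem isOpen_specializes {X S : Scheme.{u}} (f : X ⟶ S) [Smooth f] [IrreducibleSpace S]
    (huniq : ∀ w : X, ∃ z : X, ∀ y : X, y ⤳ w → z ⤳ y)
    (e : X) (he : ∀ y : X, y ⤳ e → y = e) : IsOpen {w : X | e ⤳ w} := by
  rw [isOpen_iff_forall_mem_open]
  intro x (hx : e ⤳ x)
  obtain ⟨V, W, hV, hW, hWV, -, hxW⟩ := exists_charts f x ⊤ trivial
  have heW : e ∈ W := hx.mem_open W.2 hxW
  have hsm : (f.appLE V W hWV).hom.Smooth := HasRingHomProperty.appLE @Smooth f inferInstance ⟨V, hV⟩ ⟨W, hW⟩ hWV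
  algebraize [(f.appLE V W hWV).hom]
  have hVirr : (irreducibleComponents (PrimeSpectrum Γ(S, V))).Finite := by
    have h2 : IrreducibleSpace (PrimeSpectrum Γ(S, V)) := by
      have : Nonempty (Spec Γ(S, V)) := ⟨hV.primeIdealOf ⟨f x, hWV hxW⟩⟩
      exact hV.fromSpec.isOpenEmbedding.irreducibleSpace
    rw [irreducibleComponents_eq_singleton]
    exact Set.finite_singleton _
  have hWfin : (irreducibleComponents (PrimeSpectrum Γ(X, W))).Finite :=
    Groth.Agent.S1148.result Γ(S, V) Γ(X, W) hVirr
  let g := hW.fromSpec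
  have hemb : Topology.IsOpenEmbedding g := g.isOpenEmbedding
  let e' : Spec Γ(X, W) := hW.primeIdealOf ⟨e, heW⟩
  let x' : Spec Γ(X, W) := hW.primeIdealOf ⟨x, hxW⟩
  have he' : g e' = e := hW.fromSpec_primeIdealOf ⟨e, heW⟩
  have hx' : g x' = x := hW.fromSpec_primeIdealOf ⟨x, hxW⟩
  have hsp : ∀ a b : Spec Γ(X, W), g a ⤳ g b ↔ a ⤳ b := fun a b => hemb.isInducing.specializes_iff
  have hgen : ∀ (a : X) (b : Spec Γ(X, W)), a ⤳ g b → ∃ a', g a' = a := fun a b hab =>
    hab.mem_open hemb.isOpen_range ⟨b, rfl⟩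
  have hopen : IsOpen {w : Spec Γ(X, W) | e' ⤳ w} := by
    refine isOpen_specializes_of_finite hWfin (fun w => ?_) e' (fun y hy => ?_)
    · obtain ⟨z, hz⟩ := huniq (g w)
      obtain ⟨z', rfl⟩ := hgen z w (hz (g w) specializes_rfl)
      exact ⟨z', fun y hy => (hsp _ _).1 (hz (g y) ((hsp _ _).2 hy))⟩
    · apply hemb.injective
      rw [he']
      apply he
      rw [← he']
      exact (hsp _ _).2 hy
  refine ⟨g '' {w | e' ⤳ w}, ?_, hemb.isOpenMap _ hopen, ⟨x', ?_, hx'⟩⟩
  · rintro _ ⟨w, hw, rfl⟩
    change e ⤳ g w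
    rw [← he']
    exact (hsp _ _).2 hw
  · change e' ⤳ x'
    rw [← hsp, he', hx']
    exact hx

end K564.SmoothUnibr
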