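import Groth.Agent.SGA7.K564.CTBasic
import Groth.Agent.SGA7.K564.SmoothUnibr

/-!
# Torsors under torsion free constant groups over smooth schemes over geometrically unibranch bases are trivial
-/

set_option autoImplicit false
universe u

open CategoryTheory CategoryTheory.Limits AlgebraicGeometry

namespace K564.ConstTors.CT

variable {E P : Scheme.{u}} {q : E ⟶ P} {Z : Type u} [Group Z] (c : CT q Z)

include c in
/-- `q : E → P` an étale surjective torsor under the torsion free constant group `Z`; every point of `E`, resp. `P`, has a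
most generic generization and the specializations of a maximal point of `E` form an open set: then `q` has a section. -/
theorem exists_section_of_generic [Etale q] [Surjective q] (hZ : ∀ z : Z, IsOfFinOrder z → z = 1)
    (hE : ∀ w : E, ∃ z : E, ∀ y : E, y ⤳ w → z ⤳ y)
    (hP : ∀ w : P, ∃ z : P, ∀ y : P, y ⤳ w → z ⤳ y)
    (hopen : ∀ e : E, (∀ y : E, y ⤳ e → y = e) → IsOpen {w : E | e ⤳ w}) :
    ∃ s : P ⟶ E, s ≫ q = 𝟙 P := by
  choose gE hgE using hE
  choose gP hgP using hP
  have hgE1 : ∀ w, gE w ⤳ w := fun w => hgE w w specializes_rfl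
  have hgP1 : ∀ w, gP w ⤳ w := fun w => hgP w w specializes_rfl
  have hgEmax : ∀ w y, y ⤳ gE w → y = gE w := fun w y hy =>
    (hy.antisymm (hgE w y (hy.trans (hgE1 w)))).eq
  have hgPmax : ∀ w y, y ⤳ gP w → y = gP w := fun w y hy =>
    (hy.antisymm (hgP w y (hy.trans (hgP1 w)))).eq
  -- compatibility
  have hq : ∀ w : E, q (gE w) = gP (q w) := by
    intro w
    have h1 : gP (q w) ⤳ q (gE w) := hgP (q w) _ ((hgE1 w).map q.continuous)
    obtain ⟨w', hw', h2⟩ := Flat.generalizingMap q h1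
    rw [hgEmax w w' hw'] at h2
    exact h2
  have hρ : ∀ (z : Z) (w : E), gE (c.ρ z w) = c.ρ z (gE w) := by
    intro z w
    have h1 : c.ρ z (gE w) ⤳ c.ρ z w := (hgE1 w).map (c.ρ z).continuous
    have h2 := hgE (c.ρ z w) _ h1
    have h3 : c.ρ z⁻¹ (gE (c.ρ z w)) ⤳ gE w := by
      have := h2.map (c.ρ z⁻¹).continuous
      rwa [c.ρ_inv_apply] at this
    have h4 := hgEmax w _ h3
    rw [← h4, c.ρ_apply_inv]
  have hmax_eq : ∀ (e w : E), (∀ y : E, y ⤳ e → y = e) → e ⤳ w → gE w = e := fun e w he hew =>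
    he _ (hgE w e hew)
  -- choice of a point over each point of `P`
  choose ch hch using q.surjective
  let U : E.Opens := ⟨{w : E | gE w = ch (gP (q w))}, by
    rw [isOpen_iff_forall_mem_open]
    intro w hw
    refine ⟨{y | gE w ⤳ y}, fun y hy => ?_, hopen _ (hgEmax w), hgE1 w⟩
    have h1 : gE y = gE w := hmax_eq _ _ (hgEmax w) hy
    have h2 : gP (q y) = gP (q w) := by rw [← hq, ← hq, h1]
    change gE y = ch (gP (q y))
    rw [h1, h2]
    exact hw⟩
  have hU : ∀ w : E, w ∈ U ↔ gE w = ch (gP (q w)) := fun w => Iff.rfl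
  have key1 : ∀ p : P, ∃ e : E, e ∈ U ∧ q e = p := by
    intro p
    obtain ⟨w, rfl⟩ := q.surjective p
    have h1 : q (gE w) = q (ch (gP (q w))) := by rw [hch, hq]
    obtain ⟨z, hz⟩ := c.exists_ρ_eq h1
    refine ⟨c.ρ z w, ?_, c.q_ρ_apply z w⟩
    rw [hU, hρ, c.q_ρ_apply, hz]
  have key2 : ∀ e : E, e ∈ U → ∀ z, c.ρ z e ∈ U → z = 1 := by
    intro e he z hz
    rw [hU] at he hz
    rw [hρ, c.q_ρ_apply, he] at hz
    exact c.eq_one_of_fixed hZ hz
  obtain ⟨s, hs, -⟩ := c.exists_section_of_open U key1 key2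
  exact ⟨s, hs⟩

include c in
/-- The case of a smooth scheme over an irreducible geometrically unibranch scheme. -/
theorem exists_section_of_smooth_geomUnibranch [Etale q] [Surjective q] (hZ : ∀ z : Z, IsOfFinOrder z → z = 1)
    {S : Scheme.{u}} [IrreducibleSpace S] (hS : ∀ s : S, CAlg2.IsGeomUnibranch (S.presheaf.stalk s))
    (f : P ⟶ S) [Smooth f] : ∃ s : P ⟶ E, s ≫ q = 𝟙 P := by
  have h1 : ∀ w : E, ∃ z : E, ∀ y : E, y ⤳ w → z ⤳ y := fun w =>
    SmoothUnibr.exists_generic (q ≫ f) w (hS _)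
  exact c.exists_section_of_generic hZ h1 (fun w => SmoothUnibr.exists_generic f w (hS _))
    (fun e he => SmoothUnibr.isOpen_specializes (q ≫ f) h1 e he)

end K564.ConstTors.CT
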