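import Groth.Agent.Sga3.H820.NeutralOpen
import Groth.Agent.Sga3C.LocConn
import Groth.Agent.Sga3C.GrpIrr
import Groth.Agent.SGA7.K564.CTUnibr
import Groth.Agent.SGA7.K564.CTFibres

/-!
# Extensions of connected groups by torsion free constant groups over a field: existence of a section
-/

set_option autoImplicit false
universe u

open CategoryTheory CategoryTheory.Limits MonoidalCategory CartesianMonoidalCategory MonObj GrpObj AlgebraicGeometry

namespace K564.GrpGeneric

section Top

variable {X : Type*} [TopologicalSpace X]

theorem mem_connectedComponent_of_specializes {x y : X} (h : y ⤳ x) : y ∈ connectedComponent x := by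
  have h1 : IsPreconnected (closure {y}) := isPreconnected_singleton.closure
  exact h1.subset_connectedComponent (specializes_iff_mem_closure.1 h) (subset_closure rfl)

theorem exists_generic_of_irr [QuasiSober X] (hirr : ∀ x : X, IsPreirreducible (connectedComponent x)) (w : X) :
    ∃ z : X, z ∈ connectedComponent w ∧ closure {z} = connectedComponent w ∧ ∀ y : X, y ⤳ w → z ⤳ y := by
  obtain ⟨z, hz⟩ := QuasiSober.sober (S := connectedComponent w)
    ⟨⟨w, mem_connectedComponent⟩, hirr w⟩ isClosed_connectedComponent
  refine ⟨z, ?_, hz.def, fun y hy => ?_⟩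
  · rw [← hz.def]; exact subset_closure rfl
  · exact hz.specializes (mem_connectedComponent_of_specializes hy)

theorem isOpen_specializes_of_irr [QuasiSober X] [LocallyConnectedSpace X]
    (hirr : ∀ x : X, IsPreirreducible (connectedComponent x)) (e : X) (he : ∀ y : X, y ⤳ e → y = e) :
    IsOpen {w : X | e ⤳ w} := by
  obtain ⟨z, hz1, hz2, hz3⟩ := exists_generic_of_irr hirr e
  have hze : z = e := he z (hz3 e specializes_rfl)
  have heq : {w : X | e ⤳ w} = connectedComponent e := by
    ext w
    rw [← hz2, hze]
    exact specializes_iff_mem_closure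
  rw [heq]
  exact isOpen_connectedComponent

end Top

variable {k : Type u} [Field k] {Z : Type u} [Group Z]

/-- Section of a torsor under a torsion free constant group over a connected group scheme which is again a group
scheme. -/
theorem exists_section_of_grp {E P : Over (Spec (CommRingCat.of k))} [GrpObj E] [GrpObj P]
    [LocallyOfFiniteType E.hom] (v : E ⟶ P) (c : ConstTors.CT v.left Z)
    [Etale v.left] [Surjective v.left] (hZ : ∀ z : Z, IsOfFinOrder z → z = 1) :
    ∃ s : P.left ⟶ E.left, s ≫ v.left = 𝟙 P.left := by
  have hE := Groth.Agent.Sga3.H820.NeutralOpen.isPreirreducible_connectedComponent E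
  have hP := Groth.Agent.Sga3.H820.NeutralOpen.isPreirreducible_connectedComponent P
  have : IsLocallyNoetherian E.left := LocallyOfFiniteType.isLocallyNoetherian E.hom
  have : LocallyConnectedSpace E.left :=
    Groth.Agent.Sga3C.LocConn.locallyConnectedSpace_of_isLocallyNoetherian E.left
  refine c.exists_section_of_generic hZ (fun w => ?_) (fun w => ?_)
    (fun e he => isOpen_specializes_of_irr hE e he)
  · obtain ⟨z, -, -, hz⟩ := exists_generic_of_irr hE w
    exact ⟨z, hz⟩
  · obtain ⟨z, -, -, hz⟩ := exists_generic_of_irr hP w
    exact ⟨z, hz⟩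

end K564.GrpGeneric
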