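import Groth.Agent.Sga7.H76.SmoothForm
import Groth.Agent.GIT.K688.RosUnits
import Mathlib.RingTheory.TensorProduct.MonoidAlgebra
import Mathlib.Algebra.MvPolynomial.Equiv
import Groth.Agent.Sga3B.DiagSmooth

/-!
# `Pic Y → Pic (Y × Spec A)` is surjective for `A = k[x₁, …, x_N][ℤ^r]` and `Y` smooth over an algebraically closed
field
-/

set_option autoImplicit false
universe u
open CategoryTheory CategoryTheory.Limits AlgebraicGeometry TopologicalSpace Opposite TensorProduct

namespace K564.PicCell

open Groth.Agent Groth.Agent.Grpsch.PicGrp Groth.Agent.Sga7.H76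

variable {k : Type u} [Field k]

/-- The Picard group of a smooth integral `Y` surjects onto that of `Y × Spec A`, which is smooth and integral. -/
def PS (k A : Type u) [Field k] [CommRing A] [Algebra k A] : Prop :=
  ∀ ⦃Y W : Scheme.{u}⦄ (f : Y ⟶ Spec (CommRingCat.of k)) (q : W ⟶ Y) (c : W ⟶ Spec (CommRingCat.of A)),
    Smooth f → IsIntegral Y → IsPullback q c f (Spec.map (CommRingCat.ofHom (algebraMap k A))) →
      Function.Surjective (pull q : Pic Y → Pic W) ∧ Smooth (q ≫ f) ∧ IsIntegral W

theorem PS.of_algEquiv {A B : Type u} [CommRing A] [Algebra k A] [CommRing B] [Algebra k B] (e : A ≃ₐ[k] B)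
    (h : PS k A) : PS k B := by
  intro Y W f q c hf hY hW
  exact h f q _ hf hY (GrpForm.isPullback_algEquiv e.symm hW)

theorem PS.self : PS k k := by
  intro Y W f q c hf hY hW
  have hid : Spec.map (CommRingCat.ofHom (algebraMap k k)) = 𝟙 (Spec (CommRingCat.of k)) := by
    rw [Algebra.algebraMap_self]
    exact Spec.map_id _
  have hiso : IsIso q := by
    have h1 : IsIso (Spec.map (CommRingCat.ofHom (algebraMap k k))) := by rw [hid]; infer_instance
    exact hW.isIso_fst_of_isIso
  refine ⟨?_, inferInstance, ?_⟩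
  · intro x
    refine ⟨pull (inv q) x, ?_⟩
    rw [← pull_comp q (inv q), IsIso.hom_inv_id, pull_id]
  · have : Nonempty W := ⟨(inv q) (Classical.arbitrary Y)⟩
    exact isIntegral_of_isOpenImmersion q

theorem PS.tensor {A B : Type u} [CommRing A] [Algebra k A] [CommRing B] [Algebra k B]
    (hA : PS k A) (hB : PS k B) : PS k (A ⊗[k] B) := by
  intro Y W f q c hf hY hW
  let a : Spec (CommRingCat.of A) ⟶ Spec (CommRingCat.of k) := Spec.map (CommRingCat.ofHom (algebraMap k A))
  let b : Spec (CommRingCat.of B) ⟶ Spec (CommRingCat.of k) := Spec.map (CommRingCat.ofHom (algebraMap k B))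
  let a' : Spec (CommRingCat.of (A ⊗[k] B)) ⟶ Spec (CommRingCat.of A) :=
    Spec.map (CommRingCat.ofHom Algebra.TensorProduct.includeLeftRingHom)
  let b' : Spec (CommRingCat.of (A ⊗[k] B)) ⟶ Spec (CommRingCat.of B) :=
    Spec.map (CommRingCat.ofHom (Algebra.TensorProduct.includeRight : B →ₐ[k] A ⊗[k] B).toRingHom)
  have hsq : IsPullback a' b' a b :=
    isPullback_SpecMap_of_isPushout _ _ _ _ (CommRingCat.isPushout_tensorProduct k A B)
  have hab : a' ≫ a = Spec.map (CommRingCat.ofHom (algebraMap k (A ⊗[k] B))) := by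
    change Spec.map _ ≫ Spec.map _ = _
    rw [← Spec.map_comp, ← CommRingCat.ofHom_comp]
  let W₁ := pullback f a
  let q₁ : W₁ ⟶ Y := pullback.fst f a
  let c₁ : W₁ ⟶ Spec (CommRingCat.of A) := pullback.snd f a
  have h₁ : IsPullback q₁ c₁ f a := IsPullback.of_hasPullback f a
  obtain ⟨s1, s2, s3⟩ := hA f q₁ c₁ hf hY h₁
  let t : W ⟶ W₁ := h₁.lift q (c ≫ a') (by rw [Category.assoc, hab]; exact hW.w)
  have ht1 : t ≫ q₁ = q := h₁.lift_fst _ _ _
  have ht2 : t ≫ c₁ = c ≫ a' := h₁.lift_snd _ _ _
  have h₂ : IsPullback t c c₁ a' := by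
    refine IsPullback.of_right (h₁₂ := q₁) (h₂₂ := a) (v₁₃ := f) ?_ ht2 h₁
    rw [ht1, hab]
    exact hW
  have h₃ : IsPullback t (c ≫ b') (q₁ ≫ f) b := by
    rw [h₁.w]
    exact h₂.paste_vert hsq
  obtain ⟨r1, r2, r3⟩ := hB (q₁ ≫ f) t (c ≫ b') s2 s3 h₃
  refine ⟨?_, ?_, r3⟩
  · have h4 : (pull q : Pic Y → Pic W) = fun x => pull t (pull q₁ x) := by
      funext x
      rw [← ht1, pull_comp]
    rw [h4]
    exact r1.comp s1
  · rw [← ht1, Category.assoc]
    exact r2

variable [IsAlgClosed k]

theorem isIntegral_of_isPullback {A : Type u} [CommRing A] [Algebra k A] [IsDomain A]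
    (hA : Smooth (Spec.map (CommRingCat.ofHom (algebraMap k A)))) {Y W : Scheme.{u}}
    {f : Y ⟶ Spec (CommRingCat.of k)} {q : W ⟶ Y} {c : W ⟶ Spec (CommRingCat.of A)} [Smooth f] [IsIntegral Y]
    (h : IsPullback q c f (Spec.map (CommRingCat.ofHom (algebraMap k A)))) : IsIntegral W := by
  have h1 : IsIntegral (MonoidalCategory.tensorObj (Over.mk f)
      (Over.mk (Spec.map (CommRingCat.ofHom (algebraMap k A))))).left := by
    have a1 : IsIntegral (Over.mk f).left := ‹IsIntegral Y›
    have a2 : Smooth (Over.mk f).hom := ‹Smooth f›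
    have a3 : IsIntegral (Over.mk (Spec.map (CommRingCat.ofHom (algebraMap k A)))).left :=
      inferInstanceAs (IsIntegral (Spec (CommRingCat.of A)))
    have a4 : Smooth (Over.mk (Spec.map (CommRingCat.ofHom (algebraMap k A)))).hom := hA
    exact K688.RosUnits.isIntegral_tensor _ _
  have h2 : IsIntegral (pullback f (Spec.map (CommRingCat.ofHom (algebraMap k A)))) := h1
  have : Nonempty W := ⟨h.isoPullback.inv (Classical.arbitrary _)⟩
  exact isIntegral_of_isOpenImmersion h.isoPullback.hom

omit [IsAlgClosed k] in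
theorem smooth_spec (A : Type u) [CommRing A] [Algebra k A] [Algebra.Smooth k A] :
    Smooth (Spec.map (CommRingCat.ofHom (algebraMap k A))) := by
  rw [HasRingHomProperty.Spec_iff (P := @Smooth)]
  exact RingHom.smooth_algebraMap.mpr ‹_›

theorem PS.polynomial : PS k (Polynomial k) := by
  intro Y W f q c hf hY hW
  have hn : IsLocallyNoetherian Y := LocallyOfFiniteType.isLocallyNoetherian f
  have hsm : Smooth (Spec.map (CommRingCat.ofHom (algebraMap k (Polynomial k)))) := by
    have : Algebra.Smooth k (Polynomial k) := Algebra.Smooth.mk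
    exact smooth_spec _
  refine ⟨PicLine.surjective_pull_line (SmoothForm.isRegularScheme f) f q c hW, ?_,
    isIntegral_of_isPullback hsm hW⟩
  have : Smooth q := MorphismProperty.of_isPullback (P := @Smooth) hW.flip hsm
  infer_instance

theorem PS.laurent : PS k (LaurentPolynomial k) := by
  intro Y W f q c hf hY hW
  have hn : IsLocallyNoetherian Y := LocallyOfFiniteType.isLocallyNoetherian f
  have hsm : Smooth (Spec.map (CommRingCat.ofHom (algebraMap k (LaurentPolynomial k)))) := by
    have : Algebra.Smooth k (LaurentPolynomial k) :=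
      Algebra.Smooth.of_equiv (AddMonoidAlgebra.toMultiplicativeAlgEquiv k k ℤ).symm
    exact smooth_spec _
  refine ⟨PicGm.surjective_pull_gm (SmoothForm.isRegularScheme f) f q c hW, ?_,
    isIntegral_of_isPullback hsm hW⟩
  have : Smooth q := MorphismProperty.of_isPullback (P := @Smooth) hW.flip hsm
  infer_instance

theorem PS.mvPolynomial (N : ℕ) : PS k (MvPolynomial (Fin N) k) := by
  induction N with
  | zero => exact PS.self.of_algEquiv (MvPolynomial.isEmptyAlgEquiv k (Fin 0)).symm
  | succ N ih =>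
    exact (ih.tensor PS.polynomial).of_algEquiv
      ((polyEquivTensor k (MvPolynomial (Fin N) k)).symm.trans (MvPolynomial.finSuccEquiv k N).symm)

/-- the coordinate ring of the torus of rank `r + 1` -/
noncomputable def latticeEquiv (k : Type u) [Field k] (r : ℕ) :
    MonoidAlgebra k (Multiplicative (Fin r → ℤ)) ⊗[k] MonoidAlgebra k (Multiplicative ℤ) ≃ₐ[k]
      MonoidAlgebra k (Multiplicative (Fin (r + 1) → ℤ)) :=
  (((MonoidAlgebra.scalarTensorEquiv (M := Multiplicative ℤ) k
    (MonoidAlgebra k (Multiplicative (Fin r → ℤ)))).restrictScalars k).trans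
    (MonoidAlgebra.curryAlgEquiv k).symm).trans
    (MonoidAlgebra.domCongr k k ((MulEquiv.prodMultiplicative ℤ (Fin r → ℤ)).symm.trans
      (AddEquiv.toMultiplicative (Fin.consLinearEquiv ℤ (fun _ : Fin (r + 1) => ℤ)).toAddEquiv)))

theorem PS.lattice (r : ℕ) : PS k (MonoidAlgebra k (Multiplicative (Fin r → ℤ))) := by
  induction r with
  | zero => exact PS.self.of_algEquiv (MonoidAlgebra.uniqueAlgEquiv k (Multiplicative (Fin 0 → ℤ))).symm
  | succ r ih =>
    exact (ih.tensor (PS.laurent.of_algEquiv (AddMonoidAlgebra.toMultiplicativeAlgEquiv k k ℤ))).of_algEquiv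
      (latticeEquiv k r)

theorem PS.cell (N r : ℕ) : PS k (MonoidAlgebra (MvPolynomial (Fin N) k) (Multiplicative (Fin r → ℤ))) :=
  ((PS.mvPolynomial N).tensor (PS.lattice r)).of_algEquiv
    ((MonoidAlgebra.scalarTensorEquiv k (MvPolynomial (Fin N) k)).restrictScalars k)

end K564.PicCell
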