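import Groth.Agent.SGA7.K564.UnitsGeomConn

/-!
# Units on products of geometrically connected and geometrically reduced schemes, over a reduced base
-/

set_option autoImplicit false
universe u

open CategoryTheory CategoryTheory.Limits MonoidalCategory CartesianMonoidalCategory MonObj GrpObj AlgebraicGeometry

namespace K564.UnitsConn

open Groth.Agent Groth.Agent.Books.AlgPts K406.UnitsGeom
attribute [local instance] K406.UnitsGeom.algΓ

/-- A section of a reduced scheme which is `1` at all geometric points is `1`. -/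
theorem eq_one_of_points {W : Scheme.{u}} [IsReduced W] (f : Γ(W, ⊤))
    (h : ∀ (K : Type u) [Field K] [IsAlgClosed K] (w : Spec (CommRingCat.of K) ⟶ W), w.appTop f = 1) : f = 1 := by
  rw [← sub_eq_zero, ← basicOpen_eq_bot_iff]
  ext x
  simp only [SetLike.mem_coe, TopologicalSpace.Opens.coe_bot, Set.mem_empty_iff_false, iff_false]
  intro hx
  let K := AlgebraicClosure (W.residueField x)
  let w : Spec (CommRingCat.of K) ⟶ W :=
    Spec.map (CommRingCat.ofHom (algebraMap (W.residueField x) K)) ≫ W.fromSpecResidueField x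
  have h1 : w.appTop (f - 1) = 0 := by
    rw [map_sub, map_one, h K w, sub_self]
  have h2 : w (IsLocalRing.closedPoint K) = x := by
    change (W.fromSpecResidueField x) _ = x
    exact Scheme.fromSpecResidueField_apply _ _
  have h3 : IsLocalRing.closedPoint K ∈ w ⁻¹ᵁ (W.basicOpen (f - 1)) := by
    change w (IsLocalRing.closedPoint K) ∈ W.basicOpen (f - 1)
    rw [h2]
    exact hx
  rw [Scheme.preimage_basicOpen] at h3
  have h4 : w.app ⊤ (f - 1) = 0 := h1
  rw [h4, Scheme.basicOpen_zero] at h3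
  exact h3

variable {k : Type u} [Field k]

/-- Units on `(X × Y)_T` trivial on the axes are trivial. -/
theorem eq_one_of_geom_base {X Y : Over (Spec (CommRingCat.of k))}
    [LocallyOfFiniteType X.hom] [QuasiCompact X.hom] [GeometricallyReduced X.hom] [GeometricallyConnected X.hom]
    [LocallyOfFiniteType Y.hom] [QuasiCompact Y.hom] [GeometricallyReduced Y.hom] [GeometricallyConnected Y.hom]
    (eX : 𝟙_ (Over (Spec (CommRingCat.of k))) ⟶ X) (eY : 𝟙_ (Over (Spec (CommRingCat.of k))) ⟶ Y)
    {T W : Scheme.{u}} {p : W ⟶ (X ⊗ Y).left} {r : W ⟶ T} {t : T ⟶ Spec (CommRingCat.of k)}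
    (hW : IsPullback p r (X ⊗ Y).hom t) [IsReduced W]
    (f : Γ(W, ⊤)) (hf : IsUnit f)
    (hX : ∀ {Z : Scheme.{u}} (a : Z ⟶ W) (b : Z ⟶ X.left),
      a ≫ p = b ≫ (lift (𝟙 X) (toUnit X ≫ eY)).left → a.appTop f = 1)
    (hY : ∀ {Z : Scheme.{u}} (a : Z ⟶ W) (b : Z ⟶ Y.left),
      a ≫ p = b ≫ (lift (toUnit Y ≫ eX) (𝟙 Y)).left → a.appTop f = 1) :
    f = 1 := by
  apply eq_one_of_points
  intro K _ _ w
  let t' : Spec (CommRingCat.of K) ⟶ T := w ≫ r
  let g : Spec (CommRingCat.of K) ⟶ Spec (CommRingCat.of k) := t' ≫ t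
  let F := Over.pullback g
  let X' := F.obj X
  let Y' := F.obj Y
  have a1 : LocallyOfFiniteType X'.hom := inferInstanceAs (LocallyOfFiniteType (pullback.snd X.hom g))
  have a2 : QuasiCompact X'.hom := inferInstanceAs (QuasiCompact (pullback.snd X.hom g))
  have a3 : IsReduced X'.left :=
    pullback_of_geometrically (GeometricallyReduced.geometrically_isReduced (f := X.hom)) K g
  have a4 : ConnectedSpace X'.left :=
    pullback_of_geometrically (GeometricallyConnected.geometrically_connectedSpace (f := X.hom)) K g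
  have b1 : LocallyOfFiniteType Y'.hom := inferInstanceAs (LocallyOfFiniteType (pullback.snd Y.hom g))
  have b2 : QuasiCompact Y'.hom := inferInstanceAs (QuasiCompact (pullback.snd Y.hom g))
  have b3 : IsReduced Y'.left :=
    pullback_of_geometrically (GeometricallyReduced.geometrically_isReduced (f := Y.hom)) K g
  have b4 : ConnectedSpace Y'.left :=
    pullback_of_geometrically (GeometricallyConnected.geometrically_connectedSpace (f := Y.hom)) K g
  have a5 : GeometricallyReduced X'.hom := inferInstanceAs (GeometricallyReduced (pullback.snd X.hom g))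
  have a6 : Flat X'.hom := inferInstance
  have b6 : IsLocallyNoetherian Y'.left := LocallyOfFiniteType.isLocallyNoetherian Y'.hom
  have ab : IsReduced (X' ⊗ Y').left := by
    change IsReduced (pullback X'.hom Y'.hom)
    infer_instance
  have hpw : pullback.fst (X ⊗ Y).hom g ≫ (X ⊗ Y).hom = (pullback.snd (X ⊗ Y).hom g ≫ t') ≫ t := by
    rw [Category.assoc]
    exact pullback.condition
  let p' : (F.obj (X ⊗ Y)).left ⟶ W := hW.lift _ _ hpw
  have hp' : p' ≫ p = pullback.fst (X ⊗ Y).hom g := hW.lift_fst _ _ _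
  let m : X' ⊗ Y' ⟶ F.obj (X ⊗ Y) := (Functor.Monoidal.μIso F X Y).hom
  have hm : IsIso m := inferInstance
  let f' : Γ((X' ⊗ Y').left, ⊤) := m.left.appTop (p'.appTop f)
  have hf' : IsUnit f' := (hf.map p'.appTop.hom).map m.left.appTop.hom
  let eX' : 𝟙_ (Over (Spec (CommRingCat.of K))) ⟶ X' := Functor.LaxMonoidal.ε F ≫ F.map eX
  let eY' : 𝟙_ (Over (Spec (CommRingCat.of K))) ⟶ Y' := Functor.LaxMonoidal.ε F ≫ F.map eY
  have hunit : ∀ (W V : Over (Spec (CommRingCat.of k))) (e : 𝟙_ (Over (Spec (CommRingCat.of k))) ⟶ V),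
      toUnit (F.obj W) ≫ Functor.LaxMonoidal.ε F ≫ F.map e = F.map (toUnit W ≫ e) := by
    intro W V e
    rw [Functor.map_comp, ← Category.assoc]
    congr 1
    have h : toUnit (F.obj W) ≫ Functor.LaxMonoidal.ε F ≫ Functor.OplaxMonoidal.η F =
        F.map (toUnit W) ≫ Functor.OplaxMonoidal.η F := toUnit_unique _ _
    rw [← Category.assoc, cancel_mono] at h
    exact h
  have key : ∀ (V : Over (Spec (CommRingCat.of k))) (h : V ⟶ X ⊗ Y) (h' : F.obj V ⟶ X' ⊗ Y') (hh : h' ≫ m = F.map h),
      (∀ {Z : Scheme.{u}} (a : Z ⟶ W) (b : Z ⟶ V.left), a ≫ p = b ≫ h.left → a.appTop f = 1) →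
      h'.left.appTop f' = 1 := by
    intro V h h' hh h1
    have h2 : (F.map h).left ≫ pullback.fst (X ⊗ Y).hom g = pullback.fst V.hom g ≫ h.left :=
      pullback.lift_fst _ _ _
    have h3 : (h'.left ≫ m.left ≫ p') ≫ p = pullback.fst V.hom g ≫ h.left := by
      rw [Category.assoc, Category.assoc, hp', ← Category.assoc, ← Over.comp_left, hh, h2]
    have h4 := h1 (h'.left ≫ m.left ≫ p') _ h3
    simp only [Scheme.Hom.comp_appTop, CommRingCat.comp_apply] at h4
    exact h4
  have hfin : f' = 1 := by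
    refine eq_one f' hf' eX' eY' ?_ ?_
    · apply key X (lift (𝟙 X) (toUnit X ≫ eY)) _ ?_ hX
      rw [← Functor.Monoidal.lift_μ, CategoryTheory.Functor.map_id, ← hunit]
      rfl
    · apply key Y (lift (toUnit Y ≫ eX) (𝟙 Y)) _ ?_ hY
      rw [← Functor.Monoidal.lift_μ, CategoryTheory.Functor.map_id, ← hunit]
      rfl
  have hml : IsIso m.left := inferInstanceAs (IsIso ((Over.forget _).map m))
  have hmi : Function.Injective m.left.appTop := appTop_injective m.left
  have h5 : p'.appTop f = 1 := by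
    apply hmi
    rw [map_one]
    exact hfin
  let s : Spec (CommRingCat.of K) ⟶ (F.obj (X ⊗ Y)).left :=
    pullback.lift (w ≫ p) (𝟙 _) (by rw [Category.assoc, hW.w, Category.id_comp, ← Category.assoc])
  have hs1 : s ≫ pullback.fst (X ⊗ Y).hom g = w ≫ p := pullback.lift_fst _ _ _
  have hs2 : s ≫ pullback.snd (X ⊗ Y).hom g = 𝟙 _ := pullback.lift_snd _ _ _
  have hs : s ≫ p' = w := by
    apply hW.hom_ext
    · rw [Category.assoc, hp', hs1]
    · have h6 : p' ≫ r = pullback.snd (X ⊗ Y).hom g ≫ t' := hW.lift_snd _ _ _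
      rw [Category.assoc, h6, ← Category.assoc, hs2, Category.id_comp]
  rw [← hs, Scheme.Hom.comp_appTop, CommRingCat.comp_apply, h5, map_one]

end K564.UnitsConn
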