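import Groth.Agent.Pic13.H602.FamDesc3
import Groth.Agent.Pic13.H964.UnitFam
import Groth.Agent.SGA7.K564.UnitsGeomBase
import Groth.Prelude.Def_PicLoc

/-!
# Descent of trivialisations of invertible modules
-/

set_option autoImplicit false
universe u

open CategoryTheory CategoryTheory.Limits MonoidalCategory CartesianMonoidalCategory MonObj GrpObj AlgebraicGeometry

namespace K564.TrivDesc

open Groth.Agent Groth.Agent.Picfga.LineFam Groth.Agent.Pic13.H602.Rig Groth.Agent.Pic13.H964.UnitFam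
  Groth.Agent.Pic13.H602.FamDesc

variable {Y Y' Y'' : Scheme.{u}}

/-- Transitivity of the pullback of functions. -/
lemma can_comp (G : Y' ⟶ Y) (G' : Y'' ⟶ Y') {H : Y'' ⟶ Y} (h : G' ≫ G = H) :
    Sim ((Fam.can G).comp (Fam.can G')) (Fam.can H) := by
  subst h
  exact Sim.refl _

lemma comp_can_comp {G : Y' ⟶ Y} {L : Y.Modules} (F : Fam G L (Coh.structureModule Y')) {Z : Scheme.{u}}
    (g : Y'' ⟶ Y') (g' : Z ⟶ Y'') {h : Z ⟶ Y'} (hh : g' ≫ g = h) :
    Sim ((F.comp (Fam.can g)).comp (Fam.can g')) (F.comp (Fam.can h)) := by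
  subst hh
  exact Sim.refl _

theorem isInvertible_structureModule (Y : Scheme.{u}) : PicF.IsInvertible (Coh.structureModule Y) :=
  PicLoc.isInvertible_structureModule Y

/-- Descent of trivialisations. -/
theorem isTrivialCl_of_sim {X X' W : Scheme.{u}} {q : X' ⟶ X} [Flat q] [Surjective q] [QuasiCompact q]
    {q₁ q₂ : W ⟶ X'} (hW : IsPullback q₁ q₂ q q) {L : X.Modules} (hL : PicF.IsInvertible L)
    (ν : Fam q L (Coh.structureModule X')) (h : Sim (ν.comp (Fam.can q₁)) (ν.comp (Fam.can q₂))) :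
    PicF.IsTrivialCl (PicF.cl L) := by
  have hq : Presieve.ofArrows (fun _ : PUnit.{u + 1} => X') (fun _ => q) ∈ Scheme.fpqcPrecoverage X := by
    rw [Presieve.ofArrows_pUnit]
    exact q.singleton_mem_fpqcPrecoverage
  obtain ⟨φ₀, -⟩ := exists_fam_overlap (σ := 𝟙 X) (L := L) (isInvertible_structureModule X) hq
    (fun _ => Fam.can q) (P := fun _ _ => W) (q₁ := fun _ _ => q₁) (q₂ := fun _ _ => q₂) (fun _ _ => hW)
    (fun _ _ => Fam.can q₁) (fun _ _ => Fam.can q₂)
    (fun _ _ => (can_comp q q₁ rfl).trans (can_comp q q₂ hW.w.symm).symm)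
    (fun _ => ν.cast (Category.comp_id q).symm)
    (fun _ _ => ((Sim.cast_left _).comp_left _).trans (h.trans ((Sim.cast_left _).symm.comp_left _)))
  have h1 := φ₀.cl_eq hL
  rw [PicLoc.pullCl_id] at h1
  exact h1.symm

lemma upl_upl (g : Y' ⟶ Y) (g' : Y'' ⟶ Y') (w : Γ(Y, ⊤)ˣ) : upl g' (upl g w) = upl (g' ≫ g) w := by
  apply Units.ext
  simp only [upl_val, Scheme.Hom.comp_appTop, CommRingCat.comp_apply]

lemma upl_id (w : Γ(Y, ⊤)ˣ) : upl (𝟙 Y) w = w := by
  apply Units.ext
  simp only [upl_val, Scheme.Hom.id_appTop, CommRingCat.id_apply]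

section norm

variable {k : Type u} [Field k] {X Y : Over (Spec (CommRingCat.of k))}
  (eX : 𝟙_ (Over (Spec (CommRingCat.of k))) ⟶ X) (eY : 𝟙_ (Over (Spec (CommRingCat.of k))) ⟶ Y)

/-- the first axis -/
noncomputable abbrev ax₁ : X ⟶ X ⊗ Y := lift (𝟙 X) (toUnit X ≫ eY)

/-- the second axis -/
noncomputable abbrev ax₂ : Y ⟶ X ⊗ Y := lift (toUnit Y ≫ eX) (𝟙 Y)

theorem origin : eX ≫ ax₁ (X := X) eY = eY ≫ ax₂ (Y := Y) eX := by
  ext1
  · simp
  · simp

/-- Trivialisations on the axes which agree at the origin. -/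
theorem exists_axes {L : (X ⊗ Y).left.Modules} (hL : PicF.IsInvertible L)
    (hX : PicF.IsTrivialCl (PicF.pullCl (ax₁ (X := X) eY).left (PicF.cl L)))
    (hY : PicF.IsTrivialCl (PicF.pullCl (ax₂ (Y := Y) eX).left (PicF.cl L))) :
    ∃ (lX : Fam (ax₁ (X := X) eY).left L (Coh.structureModule X.left))
      (lY : Fam (ax₂ (Y := Y) eX).left L (Coh.structureModule Y.left)),
      Sim (lX.comp (Fam.can eX.left)) (lY.comp (Fam.can eY.left)) := by
  obtain ⟨lX⟩ := Fam.nonempty_of_cl_eq hX.symm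
  obtain ⟨lY⟩ := Fam.nonempty_of_cl_eq hY.symm
  have ho : eX.left ≫ (ax₁ (X := X) eY).left = eY.left ≫ (ax₂ (Y := Y) eX).left := by
    rw [← Over.comp_left, origin, Over.comp_left]
  obtain ⟨w, hw⟩ := exists_us_sim hL ho.symm (lY.comp (Fam.can eY.left)) (lX.comp (Fam.can eX.left))
  refine ⟨lX, us (upl (toUnit Y).left w) lY, ?_⟩
  rw [us_comp]
  have h1 : upl eY.left (upl (toUnit Y).left w) = w := by
    rw [upl_upl, ← Over.comp_left, show eY ≫ toUnit Y = 𝟙 _ from toUnit_unique _ _, Over.id_left, upl_id]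
  rw [h1]
  exact hw

variable {T : Scheme.{u}} (g : T ⟶ Spec (CommRingCat.of k))

/-- the projection from the base change -/
noncomputable abbrev pr (Z : Over (Spec (CommRingCat.of k))) : ((Over.pullback g).obj Z).left ⟶ Z.left :=
  pullback.fst Z.hom g

theorem map_pr {Z Z' : Over (Spec (CommRingCat.of k))} (a : Z ⟶ Z') :
    ((Over.pullback g).map a).left ≫ pr g Z' = pr g Z ≫ a.left := pullback.lift_fst _ _ _

/-- base change of a unit -/
noncomputable abbrev bu {Z Z' : Over (Spec (CommRingCat.of k))} (a : Z ⟶ Z') :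
    Γ(((Over.pullback g).obj Z').left, ⊤)ˣ →* Γ(((Over.pullback g).obj Z).left, ⊤)ˣ :=
  upl ((Over.pullback g).map a).left

theorem bu_bu {Z Z' Z'' : Over (Spec (CommRingCat.of k))} (a : Z ⟶ Z') (b : Z' ⟶ Z'')
    (w : Γ(((Over.pullback g).obj Z'').left, ⊤)ˣ) : bu g a (bu g b w) = bu g (a ≫ b) w := by
  rw [bu, bu, upl_upl, ← Over.comp_left, ← Functor.map_comp]

theorem bu_id {Z : Over (Spec (CommRingCat.of k))} (w : Γ(((Over.pullback g).obj Z).left, ⊤)ˣ) :
    bu g (𝟙 Z) w = w := by
  rw [bu, CategoryTheory.Functor.map_id, Over.id_left, upl_id]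

/-- Normalisation of a trivialisation after base change. -/
theorem exists_norm {L : (X ⊗ Y).left.Modules} (hL : PicF.IsInvertible L)
    (lX : Fam (ax₁ (X := X) eY).left L (Coh.structureModule X.left))
    (lY : Fam (ax₂ (Y := Y) eX).left L (Coh.structureModule Y.left))
    (ho : Sim (lX.comp (Fam.can eX.left)) (lY.comp (Fam.can eY.left)))
    (ν₀ : Fam (pr g (X ⊗ Y)) L (Coh.structureModule ((Over.pullback g).obj (X ⊗ Y)).left)) :
    ∃ ν : Fam (pr g (X ⊗ Y)) L (Coh.structureModule ((Over.pullback g).obj (X ⊗ Y)).left),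
      Sim (ν.comp (Fam.can ((Over.pullback g).map (ax₁ (X := X) eY)).left)) (lX.comp (Fam.can (pr g X))) ∧
      Sim (ν.comp (Fam.can ((Over.pullback g).map (ax₂ (Y := Y) eX)).left)) (lY.comp (Fam.can (pr g Y))) := by
  obtain ⟨uX, hX⟩ := exists_us_sim hL (map_pr g (ax₁ (X := X) eY))
    (ν₀.comp (Fam.can ((Over.pullback g).map (ax₁ (X := X) eY)).left)) (lX.comp (Fam.can (pr g X)))
  obtain ⟨uY, hY⟩ := exists_us_sim hL (map_pr g (ax₂ (Y := Y) eX))
    (ν₀.comp (Fam.can ((Over.pullback g).map (ax₂ (Y := Y) eX)).left)) (lY.comp (Fam.can (pr g Y)))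
  have h1 : Sim (lX.comp (Fam.can (pr g (𝟙_ _) ≫ eX.left)))
      (us (bu g eX uX) (ν₀.comp (Fam.can ((Over.pullback g).map (eX ≫ ax₁ (X := X) eY)).left))) := by
    refine ((comp_can_comp lX _ _ (map_pr g eX)).symm.trans (hX.comp_left _)).trans ?_
    rw [us_comp]
    refine Sim.us (comp_can_comp ν₀ _ _ ?_) _
    rw [← Over.comp_left, ← Functor.map_comp]
  have h2 : Sim (lY.comp (Fam.can (pr g (𝟙_ _) ≫ eY.left)))
      (us (bu g eY uY) (ν₀.comp (Fam.can ((Over.pullback g).map (eY ≫ ax₂ (Y := Y) eX)).left))) := by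
    refine ((comp_can_comp lY _ _ (map_pr g eY)).symm.trans (hY.comp_left _)).trans ?_
    rw [us_comp]
    refine Sim.us (comp_can_comp ν₀ _ _ ?_) _
    rw [← Over.comp_left, ← Functor.map_comp]
  have h3 : Sim (lX.comp (Fam.can (pr g (𝟙_ _) ≫ eX.left))) (lY.comp (Fam.can (pr g (𝟙_ _) ≫ eY.left))) :=
    ((comp_can_comp lX eX.left (pr g (𝟙_ _)) rfl).symm.trans (ho.comp_left _)).trans
      (comp_can_comp lY eY.left (pr g (𝟙_ _)) rfl)
  have h4 : bu g eX uX = bu g eY uY := by
    have h5 := (h1.symm.trans h3).trans h2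
    rw [origin] at h5
    exact us_injective hL _ h5.eq
  refine ⟨us (bu g (fst X Y) uX * bu g (snd X Y) uY * (bu g (toUnit (X ⊗ Y)) (bu g eX uX))⁻¹) ν₀, ?_, ?_⟩
  · rw [us_comp]
    refine Sim.trans ?_ hX.symm
    have h5 : bu g (ax₁ (X := X) eY)
        (bu g (fst X Y) uX * bu g (snd X Y) uY * (bu g (toUnit (X ⊗ Y)) (bu g eX uX))⁻¹) = uX := by
      rw [map_mul, map_mul, map_inv, bu_bu, bu_bu, lift_fst, lift_snd, bu_id, h4, bu_bu, bu_bu,
        show ax₁ (X := X) eY ≫ toUnit (X ⊗ Y) = toUnit X from toUnit_unique _ _, _root_.mul_assoc, mul_inv_cancel, _root_.mul_one]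
    rw [show upl ((Over.pullback g).map (ax₁ (X := X) eY)).left
      (bu g (fst X Y) uX * bu g (snd X Y) uY * (bu g (toUnit (X ⊗ Y)) (bu g eX uX))⁻¹) = uX from h5]
  · rw [us_comp]
    refine Sim.trans ?_ hY.symm
    have h5 : bu g (ax₂ (Y := Y) eX)
        (bu g (fst X Y) uX * bu g (snd X Y) uY * (bu g (toUnit (X ⊗ Y)) (bu g eX uX))⁻¹) = uY := by
      rw [map_mul, map_mul, map_inv, bu_bu, bu_bu, lift_fst, lift_snd, bu_id, bu_bu, bu_bu,
        show ax₂ (Y := Y) eX ≫ toUnit (X ⊗ Y) = toUnit Y from toUnit_unique _ _,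
        mul_comm (bu g (toUnit Y ≫ eX) uX), _root_.mul_assoc, mul_inv_cancel, _root_.mul_one]
    rw [show upl ((Over.pullback g).map (ax₂ (Y := Y) eX)).left
      (bu g (fst X Y) uX * bu g (snd X Y) uY * (bu g (toUnit (X ⊗ Y)) (bu g eX uX))⁻¹) = uY from h5]

/-- An invertible module on `X × Y`, trivial on the axes, which becomes trivial after a faithfully flat base
change of the field is trivial. -/
theorem isTrivialCl_of_baseChange
    [LocallyOfFiniteType X.hom] [QuasiCompact X.hom] [GeometricallyReduced X.hom] [GeometricallyConnected X.hom]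
    [LocallyOfFiniteType Y.hom] [QuasiCompact Y.hom] [GeometricallyReduced Y.hom] [GeometricallyConnected Y.hom]
    [Flat g] [Surjective g] [QuasiCompact g]
    (hred : IsReduced (pullback (X ⊗ Y).hom (pullback.fst g g ≫ g)))
    {L : (X ⊗ Y).left.Modules} (hL : PicF.IsInvertible L)
    (hX : PicF.IsTrivialCl (PicF.pullCl (ax₁ (X := X) eY).left (PicF.cl L)))
    (hY : PicF.IsTrivialCl (PicF.pullCl (ax₂ (Y := Y) eX).left (PicF.cl L)))
    (hg : PicF.IsTrivialCl (PicF.pullCl (pr g (X ⊗ Y)) (PicF.cl L))) :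
    PicF.IsTrivialCl (PicF.cl L) := by
  obtain ⟨lX, lY, ho⟩ := exists_axes eX eY hL hX hY
  obtain ⟨ν₀⟩ := Fam.nonempty_of_cl_eq hg.symm
  obtain ⟨ν, hνX, hνY⟩ := exists_norm eX eY g hL lX lY ho ν₀
  let q : pullback (X ⊗ Y).hom g ⟶ (X ⊗ Y).left := pullback.fst (X ⊗ Y).hom g
  have hq1 : Flat q := inferInstance
  have hq2 : Surjective q := inferInstance
  have hq3 : QuasiCompact q := inferInstance
  let t : pullback g g ⟶ Spec (CommRingCat.of k) := pullback.fst g g ≫ g
  let W := pullback (X ⊗ Y).hom t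
  let p : W ⟶ (X ⊗ Y).left := pullback.fst _ _
  let r : W ⟶ pullback g g := pullback.snd _ _
  have hpr : p ≫ (X ⊗ Y).hom = r ≫ t := pullback.condition
  let q₁ : W ⟶ pullback (X ⊗ Y).hom g := pullback.lift p (r ≫ pullback.fst g g) (by
    rw [hpr, Category.assoc])
  let q₂ : W ⟶ pullback (X ⊗ Y).hom g := pullback.lift p (r ≫ pullback.snd g g) (by
    rw [hpr, Category.assoc, ← pullback.condition (f := g) (g := g)])
  have e1 : q₁ ≫ q = p := pullback.lift_fst _ _ _
  have e2 : q₂ ≫ q = p := pullback.lift_fst _ _ _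
  have e3 : q₁ ≫ pullback.snd _ _ = r ≫ pullback.fst g g := pullback.lift_snd _ _ _
  have e4 : q₂ ≫ pullback.snd _ _ = r ≫ pullback.snd g g := pullback.lift_snd _ _ _
  have hW : IsPullback q₁ q₂ q q := by
    refine ⟨⟨e1.trans e2.symm⟩, ⟨PullbackCone.IsLimit.mk _ (fun s => pullback.lift (s.fst ≫ q)
      (pullback.lift (s.fst ≫ pullback.snd _ _) (s.snd ≫ pullback.snd _ _) ?_) ?_) ?_ ?_ ?_⟩⟩
    · rw [Category.assoc, Category.assoc, ← pullback.condition (f := (X ⊗ Y).hom) (g := g), ← Category.assoc,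
        ← Category.assoc]
      exact congrArg (· ≫ (X ⊗ Y).hom) s.condition
    · rw [pullback.lift_fst_assoc, Category.assoc, Category.assoc, pullback.condition]
    · intro s
      apply pullback.hom_ext
      · rw [Category.assoc, show q₁ ≫ pullback.fst _ _ = p from e1]
        exact pullback.lift_fst _ _ _
      · rw [Category.assoc, e3, pullback.lift_snd_assoc, pullback.lift_fst]
    · intro s
      apply pullback.hom_ext
      · rw [Category.assoc, show q₂ ≫ pullback.fst _ _ = p from e2]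
        exact (pullback.lift_fst _ _ _).trans s.condition
      · rw [Category.assoc, e4, pullback.lift_snd_assoc, pullback.lift_snd]
    · intro s m h1 h2
      apply pullback.hom_ext
      · rw [pullback.lift_fst, ← h1, Category.assoc, e1]
      · rw [pullback.lift_snd]
        apply pullback.hom_ext
        · rw [pullback.lift_fst, ← h1, Category.assoc, Category.assoc, e3]
        · rw [pullback.lift_snd, ← h2, Category.assoc, Category.assoc, e4]
  obtain ⟨u, hu⟩ := exists_us_sim hL hW.w (ν.comp (Fam.can q₁)) (ν.comp (Fam.can q₂))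
  have hWr : IsPullback p r (X ⊗ Y).hom t := IsPullback.of_hasPullback _ _
  have hu1 : (u : Γ(W, ⊤)) = 1 := by
    have haux : ∀ {Z : Scheme.{u}} {V : Over (Spec (CommRingCat.of k))} (h : V ⟶ X ⊗ Y)
        (l : Fam h.left L (Coh.structureModule V.left))
        (_ : Sim (ν.comp (Fam.can ((Over.pullback g).map h).left)) (l.comp (Fam.can (pr g V))))
        (a : Z ⟶ W) (b : Z ⟶ V.left), a ≫ p = b ≫ h.left → upl a u = 1 := by
      intro Z V h l hl a b hab
      have key : ∀ (q' : W ⟶ pullback (X ⊗ Y).hom g) (_ : q' ≫ q = p),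
          Sim ((ν.comp (Fam.can q')).comp (Fam.can a)) (l.comp (Fam.can b)) := by
        intro q' hq'
        let c : Z ⟶ ((Over.pullback g).obj V).left := pullback.lift b (a ≫ q' ≫ pullback.snd _ _) (by
          rw [← Over.w h, ← Category.assoc, ← hab, ← hq', Category.assoc, Category.assoc, Category.assoc,
            Category.assoc, pullback.condition])
        have hc1 : c ≫ pr g V = b := pullback.lift_fst _ _ _
        have hc2 : c ≫ ((Over.pullback g).map h).left = a ≫ q' := by
          apply pullback.hom_ext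
          · have h1 := map_pr g h
            rw [pr, pr] at h1
            rw [Category.assoc, h1, ← Category.assoc]
            change (c ≫ pr g V) ≫ h.left = _
            rw [hc1, Category.assoc, show q' ≫ pullback.fst _ _ = p from hq', hab]
          · have h1 : ((Over.pullback g).map h).left ≫ pullback.snd (X ⊗ Y).hom g = pullback.snd V.hom g :=
              Over.w ((Over.pullback g).map h)
            rw [Category.assoc, h1, Category.assoc]
            exact pullback.lift_snd _ _ _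
        exact ((comp_can_comp ν q' a hc2.symm).trans
          ((comp_can_comp ν _ c rfl).symm.trans (hl.comp_left _))).trans (comp_can_comp l _ c hc1)
      have h1 := hu.comp_left (Fam.can a)
      rw [us_comp] at h1
      have h2 := (key q₁ e1).trans ((key q₂ e2).symm.trans h1)
      have h3 : Sim (us 1 ((ν.comp (Fam.can q₁)).comp (Fam.can a)))
          (us (upl a u) ((ν.comp (Fam.can q₁)).comp (Fam.can a))) := by
        rw [us_one]
        exact h2
      exact (us_injective hL _ h3.eq).symm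
    refine UnitsConn.eq_one_of_geom_base eX eY hWr (u : Γ(W, ⊤)) u.isUnit ?_ ?_
    · intro Z a b hab
      exact congrArg Units.val (haux _ lX hνX a b hab)
    · intro Z a b hab
      exact congrArg Units.val (haux _ lY hνY a b hab)
  have hu2 : u = 1 := Units.ext hu1
  rw [hu2, us_one] at hu
  exact isTrivialCl_of_sim hW hL ν hu.symm

end norm

end K564.TrivDesc
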