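import Groth.Agent.SGA7.K564.HopfSplit
import Groth.Agent.SGA7.K564.PicCell
import Groth.Agent.SGA7.K564.TrivDesc
import Groth.Agent.Picfga.PicBridge
import Groth.Agent.Sga3C.GeomRedPerf
import Groth.Agent.Fdesc.GeomConn
import Mathlib.CategoryTheory.Monoidal.CommMon_

/-!
# Invertible modules on `P × Q`, `P` a connected commutative affine group, trivial on the axes
-/

set_option autoImplicit false
universe u

open CategoryTheory CategoryTheory.Limits MonoidalCategory CartesianMonoidalCategory MonObj AlgebraicGeometry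
open TensorProduct

namespace K564.PicTriv

open Groth.Agent Groth.Agent.Grpsch.PicGrp Groth.Agent.Picfga.PicBridge
open Groth.Agent.Books.AffBridge Groth.Agent.Books.AffBridge2 WithConv HopfRep
  Groth.Agent.Sga7.H738.TorusF K564.PicCell

section algClosed

variable (K : Type u) [Field K] [IsAlgClosed K] (P : Over (Spec (CommRingCat.of K))) [GrpObj P] [IsCommMonObj P]
  [IsAffine P.left] [Smooth P.hom] [ConnectedSpace P.left]

theorem surjective_pull (Q : Over (Spec (CommRingCat.of K))) [Smooth Q.hom] [IsIntegral Q.left] :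
    Function.Surjective (pull (snd P Q).left : Pic Q.left → Pic (P ⊗ Q).left) := by
  obtain ⟨A, _, _, e, he⟩ := exists_hopf K P
  have hei : IsMonHom e.inv := inferInstance
  have : IsIntegral P.left := Sga3B.CellDim.isIntegral_of_connected_grp P
  have hdom : IsDomain A := isDomain_of_iso e
  have hft : Algebra.FiniteType K A := finiteType_of_iso e
  have hco : Coalgebra.IsCocomm K A := by
    refine isCocomm_of_points fun X x y => ?_
    have h1 : (x ≫ e.inv) * (y ≫ e.inv) = (y ≫ e.inv) * (x ≫ e.inv) := mul_comm _ _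
    rwa [← MonObj.mul_comp, ← MonObj.mul_comp, cancel_mono] at h1
  obtain ⟨N, r, ⟨ε⟩⟩ := HopfSplit.exists_algEquiv K A
  have hPS : PS K A := (PS.cell N r).of_algEquiv ε.symm
  have h1 : IsPullback (snd P Q).left (fst P Q).left Q.hom P.hom :=
    (IsPullback.of_hasPullback P.hom Q.hom).flip
  have h2 : IsPullback (snd P Q).left ((fst P Q).left ≫ e.hom.left) Q.hom
      (Spec.map (CommRingCat.ofHom (algebraMap K A))) := by
    refine h1.of_iso (Iso.refl _) (Iso.refl _) ((Over.forget _).mapIso e) (Iso.refl _) ?_ ?_ ?_ ?_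
    · simp
    · simp
    · simp
    · simp only [Iso.refl_hom, Category.comp_id]
      exact (Over.w e.hom).symm
  exact (hPS Q.hom (snd P Q).left _ inferInstance inferInstance h2).1

/-- Over an algebraically closed field an invertible module on `P × Q` trivial on `e × Q` is trivial. -/
theorem isTrivialCl_algClosed (Q : Over (Spec (CommRingCat.of K))) [Smooth Q.hom] [IsIntegral Q.left]
    (e : 𝟙_ _ ⟶ P) {c : PicF.Cl (P ⊗ Q).left} (hc : PicF.IsInvertibleCl c)
    (h : PicF.IsTrivialCl (PicF.pullCl (lift (toUnit Q ≫ e) (𝟙 Q)).left c)) : PicF.IsTrivialCl c := by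
  obtain ⟨d, rfl⟩ := exists_ofPic hc
  rw [← ofPic_pull, isTrivialCl_ofPic] at h
  rw [isTrivialCl_ofPic]
  exact Groth.Agent.Sga7.H76.PicLine.eq_one_of_surjective (surjective_pull K P Q) _
    (by rw [← Over.comp_left, lift_snd, Over.id_left]) d h

end algClosed

section perfect

variable {k : Type u} [Field k]

theorem geometricallyConnected (G : Over (Spec (CommRingCat.of k))) [GrpObj G] [ConnectedSpace G.left] :
    GeometricallyConnected G.hom := by
  let g : Spec (CommRingCat.of k) ⟶ G.left := (η[G] : 𝟙_ (Over (Spec (CommRingCat.of k))) ⟶ G).left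
  have hg : g ≫ G.hom = 𝟙 _ := Over.w (η[G] : 𝟙_ (Over (Spec (CommRingCat.of k))) ⟶ G)
  have h1 : GeometricallyConnected (g ≫ G.hom) := by
    rw [hg]
    refine ⟨fun K _ y Z fst snd h ↦ ?_⟩
    have : IsIso snd := MorphismProperty.of_isPullback (P := MorphismProperty.isomorphisms Scheme.{u}) h
      (inferInstanceAs (IsIso (𝟙 _)))
    exact (Scheme.homeoOfIso (asIso snd)).symm.surjective.connectedSpace
      (Scheme.homeoOfIso (asIso snd)).symm.continuous
  exact Groth.Agent.Fdesc.GeomConn.geometricallyConnected_of_hom G.hom g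

theorem isReduced_double {X : Over (Spec (CommRingCat.of k))} {T : Scheme.{u}} (g : T ⟶ Spec (CommRingCat.of k))
    [GeometricallyReduced g] [Flat g] [IsReduced (pullback X.hom g)] [IsLocallyNoetherian (pullback X.hom g)] :
    IsReduced (pullback X.hom (pullback.fst g g ≫ g)) := by
  let p : pullback X.hom (pullback.fst g g ≫ g) ⟶ X.left := pullback.fst _ _
  let r : pullback X.hom (pullback.fst g g ≫ g) ⟶ pullback g g := pullback.snd _ _
  have hpr : p ≫ X.hom = r ≫ pullback.fst g g ≫ g := pullback.condition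
  let q₁ : pullback X.hom (pullback.fst g g ≫ g) ⟶ pullback X.hom g :=
    pullback.lift p (r ≫ pullback.fst g g) (by rw [hpr, Category.assoc])
  have e1 : q₁ ≫ pullback.fst X.hom g = p := pullback.lift_fst _ _ _
  have e3 : q₁ ≫ pullback.snd X.hom g = r ≫ pullback.fst g g := pullback.lift_snd _ _ _
  have h1 : IsPullback q₁ r (pullback.snd X.hom g) (pullback.fst g g) := by
    refine IsPullback.of_right (h₁₂ := pullback.fst X.hom g) (h₂₂ := g) (v₁₃ := X.hom) ?_ e3
      (IsPullback.of_hasPullback _ _)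
    rw [e1]
    exact IsPullback.of_hasPullback _ _
  have h2 : IsPullback q₁ (r ≫ pullback.snd g g) (pullback.snd X.hom g ≫ g) g :=
    h1.paste_vert (IsPullback.of_hasPullback g g)
  have h3 : GeometricallyReduced q₁ := MorphismProperty.of_isPullback h2.flip ‹_›
  have h4 : Flat q₁ := MorphismProperty.of_isPullback h2.flip ‹_›
  exact GeometricallyReduced.isReduced_of_flat_of_isLocallyNoetherian q₁

theorem isCommMonObj_bc {S S' : Scheme.{u}} (f : S' ⟶ S) (G : Over S) [GrpObj G] [IsCommMonObj G] :
    IsCommMonObj (Red.bc f G) := inferInstance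

variable [PerfectField k]

/-- Over a perfect field an invertible module on `P × Q` trivial on the axes is trivial. -/
theorem isTrivialCl_perfect (P Q : Over (Spec (CommRingCat.of k))) [GrpObj P] [GrpObj Q] [IsCommMonObj P]
    [IsAffine P.left] [Smooth P.hom] [ConnectedSpace P.left]
    [Smooth Q.hom] [QuasiCompact Q.hom] [ConnectedSpace Q.left]
    {L : (P ⊗ Q).left.Modules} (hL : PicF.IsInvertible L)
    (hP : PicF.IsTrivialCl (PicF.pullCl (lift (𝟙 P) (toUnit P ≫ η[Q])).left (PicF.cl L)))
    (hQ : PicF.IsTrivialCl (PicF.pullCl (lift (toUnit Q ≫ η[P]) (𝟙 Q)).left (PicF.cl L))) :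
    PicF.IsTrivialCl (PicF.cl L) := by
  let K := AlgebraicClosure k
  let g : Spec (CommRingCat.of K) ⟶ Spec (CommRingCat.of k) := Spec.map (CommRingCat.ofHom (algebraMap k K))
  have hgf : Flat g := inferInstance
  have hgs : Surjective g := ⟨fun s => ⟨IsLocalRing.closedPoint K, Subsingleton.elim _ _⟩⟩
  have hgr : GeometricallyReduced g := Sga3C.GeomRedPerf.geometricallyReduced_of_isReduced g
  have r1 : IsReduced P.left := Groth.Agent.Etcore.SmoothRed.isReduced_of_smooth P.hom
  have r2 : IsReduced Q.left := Groth.Agent.Etcore.SmoothRed.isReduced_of_smooth Q.hom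
  have r3 : GeometricallyReduced P.hom := Sga3C.GeomRedPerf.geometricallyReduced_of_isReduced P.hom
  have r4 : GeometricallyReduced Q.hom := Sga3C.GeomRedPerf.geometricallyReduced_of_isReduced Q.hom
  have c1 := geometricallyConnected P
  have c2 := geometricallyConnected Q
  have hs : Smooth (P ⊗ Q).hom := by
    change Smooth (pullback.fst P.hom Q.hom ≫ P.hom)
    infer_instance
  have n1 : IsLocallyNoetherian (pullback (P ⊗ Q).hom g) :=
    LocallyOfFiniteType.isLocallyNoetherian (pullback.snd (P ⊗ Q).hom g)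
  have n2 : IsReduced (pullback (P ⊗ Q).hom g) :=
    Groth.Agent.Etcore.SmoothRed.isReduced_of_smooth (pullback.snd (P ⊗ Q).hom g)
  refine TrivDesc.isTrivialCl_of_baseChange η[P] η[Q] g (isReduced_double g) hL hP hQ ?_
  let F := Over.pullback g
  have a0 : Smooth (F.obj P).hom := inferInstanceAs (Smooth (pullback.snd P.hom g))
  have a1 : Smooth (F.obj Q).hom := inferInstanceAs (Smooth (pullback.snd Q.hom g))
  have a2 : ConnectedSpace (F.obj P).left :=
    pullback_of_geometrically (GeometricallyConnected.geometrically_connectedSpace (f := P.hom)) K g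
  have a3 : ConnectedSpace (F.obj Q).left :=
    pullback_of_geometrically (GeometricallyConnected.geometrically_connectedSpace (f := Q.hom)) K g
  have a4 : IsAffine (F.obj P).left := inferInstanceAs (IsAffine (pullback P.hom g))
  let gP : GrpObj (F.obj P) := Red.grpObj_bc g P
  let gQ : GrpObj (F.obj Q) := Red.grpObj_bc g Q
  have gPc : IsCommMonObj (F.obj P) := isCommMonObj_bc g P
  have a5 : IsIntegral (F.obj Q).left := Sga3B.CellDim.isIntegral_of_connected_grp (F.obj Q)
  let m : F.obj P ⊗ F.obj Q ⟶ F.obj (P ⊗ Q) := (Functor.Monoidal.μIso F P Q).hom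
  have hm : IsIso m := inferInstance
  have hml : IsIso m.left := inferInstanceAs (IsIso ((Over.forget _).map m))
  let e' : 𝟙_ (Over (Spec (CommRingCat.of K))) ⟶ F.obj P := Functor.LaxMonoidal.ε F ≫ F.map η[P]
  have hunit : toUnit (F.obj Q) ≫ e' = F.map (toUnit Q ≫ η[P]) := by
    rw [Functor.map_comp, ← Category.assoc]
    congr 1
    have h : toUnit (F.obj Q) ≫ Functor.LaxMonoidal.ε F ≫ Functor.OplaxMonoidal.η F =
        F.map (toUnit Q) ≫ Functor.OplaxMonoidal.η F := toUnit_unique _ _
    rw [← Category.assoc, cancel_mono] at h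
    exact h
  have hlift : lift (toUnit (F.obj Q) ≫ e') (𝟙 (F.obj Q)) ≫ m = F.map (lift (toUnit Q ≫ η[P]) (𝟙 Q)) := by
    rw [hunit, ← Functor.Monoidal.lift_μ, CategoryTheory.Functor.map_id]
    rfl
  have hinv : PicF.IsInvertibleCl (PicF.pullCl m.left (PicF.pullCl (TrivDesc.pr g (P ⊗ Q)) (PicF.cl L))) :=
    PicLoc.isInvertibleCl_pullCl _ (PicLoc.isInvertibleCl_pullCl _ ⟨L, rfl, hL⟩)
  have htriv : PicF.IsTrivialCl (PicF.pullCl (lift (toUnit (F.obj Q) ≫ e') (𝟙 (F.obj Q))).left
      (PicF.pullCl m.left (PicF.pullCl (TrivDesc.pr g (P ⊗ Q)) (PicF.cl L)))) := by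
    have h5 : (lift (toUnit (F.obj Q) ≫ e') (𝟙 (F.obj Q))).left ≫ m.left ≫ TrivDesc.pr g (P ⊗ Q) =
        TrivDesc.pr g Q ≫ (lift (toUnit Q ≫ η[P]) (𝟙 Q)).left := by
      rw [← Category.assoc, ← Over.comp_left, hlift, TrivDesc.map_pr]
    rw [← PicLoc.pullCl_comp, ← PicLoc.pullCl_comp, Category.assoc, h5, PicLoc.pullCl_comp]
    exact PicLoc.isTrivialCl_pullCl _ hQ
  have hfin := isTrivialCl_algClosed K (F.obj P) (F.obj Q) e' hinv htriv
  have h2 := PicLoc.isTrivialCl_pullCl (inv m.left) hfin
  rwa [← PicLoc.pullCl_comp, IsIso.inv_hom_id, PicLoc.pullCl_id] at h2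

end perfect

end K564.PicTriv
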