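import Groth.Agent.SGA7.K564.ConstTors
import Mathlib.AlgebraicGeometry.Morphisms.FlatMono

/-!
# Torsors under constant groups: étale, surjective, open transversals are sections
-/

set_option autoImplicit false
universe u

open CategoryTheory CategoryTheory.Limits MonoidalCategory CartesianMonoidalCategory AlgebraicGeometry

namespace K564.ConstTors

variable {E P : Scheme.{u}} {q : E ⟶ P} {Z : Type u} [Group Z]

namespace CT

variable (c : CT q Z)

theorem ρ_inv_comp (z : Z) : c.ρ z ≫ c.ρ z⁻¹ = 𝟙 E := by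
  rw [← c.ρ_mul, inv_mul_cancel, c.ρ_one]

theorem comp_ρ_inv (z : Z) : c.ρ z⁻¹ ≫ c.ρ z = 𝟙 E := by
  rw [← c.ρ_mul, mul_inv_cancel, c.ρ_one]

instance isIso_ρ (z : Z) : IsIso (c.ρ z) := ⟨⟨c.ρ z⁻¹, c.ρ_inv_comp z, c.comp_ρ_inv z⟩⟩

theorem ρ_mul_apply (z w : Z) (e : E) : c.ρ (z * w) e = c.ρ z (c.ρ w e) := by
  rw [c.ρ_mul, Scheme.Hom.comp_apply]

theorem ρ_one_apply (e : E) : c.ρ 1 e = e := by
  rw [c.ρ_one]; rfl

theorem q_ρ_apply (z : Z) (e : E) : q (c.ρ z e) = q e := by
  rw [← Scheme.Hom.comp_apply, c.ρ_q]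

theorem ρ_inv_apply (z : Z) (e : E) : c.ρ z⁻¹ (c.ρ z e) = e := by
  rw [← c.ρ_mul_apply, inv_mul_cancel, c.ρ_one_apply]

theorem ρ_apply_inv (z : Z) (e : E) : c.ρ z (c.ρ z⁻¹ e) = e := by
  rw [← c.ρ_mul_apply, mul_inv_cancel, c.ρ_one_apply]

/-- `ρ z` does not depend on more than `z`. -/
theorem eq_of_comp_eq {T : Scheme.{u}} [Nonempty T] (x : T ⟶ E) {z w : Z} (h : x ≫ c.ρ z = x ≫ c.ρ w) :
    z = w := by
  have h1 : x ≫ c.ρ (w⁻¹ * z) = x := by
    rw [c.ρ_mul, reassoc_of% h, c.ρ_inv_comp, Category.comp_id]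
  have h2 := c.free x _ h1
  exact (inv_mul_eq_one.1 h2).symm

theorem mem_of_comp {T T' : Scheme.{u}} {x y : T ⟶ E} {V : Z → T.Opens} (h1 : ∀ t : T, ∃! z, t ∈ V z)
    (h2 : ∀ z, (V z).ι ≫ y = (V z).ι ≫ x ≫ c.ρ z) (j : T' ⟶ T) (z : Z) (hj : j ≫ y = j ≫ x ≫ c.ρ z)
    (t' : T') : j t' ∈ V z := by
  obtain ⟨w, hw, -⟩ := h1 (j t')
  suffices z = w by rw [this]; exact hw
  let W : T'.Opens := j ⁻¹ᵁ V w
  have hW : Nonempty W.toScheme := ⟨⟨t', hw⟩⟩
  have hr : Set.range (W.ι ≫ j) ⊆ Set.range (V w).ι := by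
    rintro _ ⟨t, rfl⟩
    exact ⟨⟨j (W.ι t), t.2⟩, rfl⟩
  let l : W.toScheme ⟶ (V w).toScheme := IsOpenImmersion.lift (V w).ι (W.ι ≫ j) hr
  have hl : l ≫ (V w).ι = W.ι ≫ j := IsOpenImmersion.lift_fac _ _ _
  apply c.eq_of_comp_eq (W.ι ≫ j ≫ x)
  rw [Category.assoc, Category.assoc, ← hj, ← Category.assoc W.ι j, ← hl, Category.assoc, h2 w,
    reassoc_of% hl]
  simp only [Category.assoc]

/-- field valued points. -/
theorem exists_field (K : Type u) [Field K] (x y : Spec (CommRingCat.of K) ⟶ E) (h : x ≫ q = y ≫ q) :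
    ∃ z, y = x ≫ c.ρ z := by
  obtain ⟨V, h1, h2⟩ := c.dec x y h
  obtain ⟨z, hz, -⟩ := h1 (IsLocalRing.closedPoint K)
  refine ⟨z, ?_⟩
  have htop : V z = ⊤ := by
    rw [eq_top_iff]
    intro t _
    have : t = IsLocalRing.closedPoint K := Subsingleton.elim _ _
    rw [this]; exact hz
  have h3 := h2 z
  have hι : IsIso (V z).ι := by
    rw [htop]; exact inferInstanceAs (IsIso (Scheme.topIso _).hom)
  rwa [cancel_epi] at h3

/-- Two points of `E` over the same point of `P` are exchanged by a translation. -/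
theorem exists_ρ_eq {e e' : E} (h : q e = q e') : ∃ z, c.ρ z e = e' := by
  obtain ⟨t, ht1, ht2⟩ := Scheme.Pullback.exists_preimage_pullback e e' h
  let κ := (pullback q q).residueField t
  let a : Spec κ ⟶ pullback q q := (pullback q q).fromSpecResidueField t
  obtain ⟨z, hz⟩ := c.exists_field κ (a ≫ pullback.fst q q) (a ≫ pullback.snd q q)
    (by rw [Category.assoc, Category.assoc, pullback.condition])
  refine ⟨z, ?_⟩
  have h1 := congrArg (fun f => f (IsLocalRing.closedPoint κ)) hz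
  simp only [Category.assoc, Scheme.Hom.comp_apply] at h1
  have h2 : a (IsLocalRing.closedPoint κ) = t := Scheme.fromSpecResidueField_apply _ _
  rw [h2, ht1, ht2] at h1
  exact h1.symm

include c in
/-- `E ×_P E → E` is étale. -/
theorem etale_fst : Etale (pullback.fst q q) := by
  obtain ⟨V, h1, h2⟩ := c.dec (pullback.fst q q) (pullback.snd q q) pullback.condition
  have hV : iSup V = ⊤ := by
    rw [eq_top_iff]
    intro t _
    obtain ⟨z, hz, -⟩ := h1 t
    exact TopologicalSpace.Opens.mem_iSup.2 ⟨z, hz⟩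
  rw [IsZariskiLocalAtSource.iff_of_iSup_eq_top (P := @Etale) V hV]
  intro z
  let ψ : E ⟶ pullback q q := pullback.lift (𝟙 E) (c.ρ z) (by rw [c.ρ_q, Category.id_comp])
  have hψ1 : ψ ≫ pullback.fst q q = 𝟙 E := pullback.lift_fst _ _ _
  have hψ2 : ψ ≫ pullback.snd q q = c.ρ z := pullback.lift_snd _ _ _
  have hr : Set.range ψ ⊆ Set.range (V z).ι := by
    rintro _ ⟨e, rfl⟩
    have := c.mem_of_comp h1 h2 ψ z (by rw [hψ2, reassoc_of% hψ1]) e
    simpa using this
  let ψ' : E ⟶ (V z).toScheme := IsOpenImmersion.lift (V z).ι ψ hr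
  have hψ' : ψ' ≫ (V z).ι = ψ := IsOpenImmersion.lift_fac _ _ _
  have hiso : IsIso ((V z).ι ≫ pullback.fst q q) := by
    refine ⟨⟨ψ', ?_, ?_⟩⟩
    · rw [← cancel_mono (V z).ι, Category.assoc, hψ', Category.id_comp]
      apply pullback.hom_ext
      · rw [Category.assoc, Category.assoc, hψ1, Category.comp_id]
      · rw [Category.assoc, Category.assoc, hψ2, h2 z]
    · rw [reassoc_of% hψ', hψ1]
  infer_instance

include c in
/-- A locally trivial torsor under a constant group is étale and surjective. -/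
theorem etale_surjective
    (hloc : NonAbH1.IsLocallyTrivialFor Scheme.fppfPrecoverage (Over.mk q)) : Etale q ∧ Surjective q := by
  obtain ⟨R, hR, hsec⟩ := hloc
  obtain ⟨hR1, hR2⟩ : R ∈ (Scheme.jointlySurjectivePrecoverage ⊓
    MorphismProperty.precoverage (@Flat ⊓ @LocallyOfFinitePresentation)) P := hR
  have hR1' : ∀ p : P, ∃ (S' : Scheme.{u}) (f : S' ⟶ P), R f ∧ p ∈ Set.range f := by
    intro p
    obtain ⟨S', f, hf, h⟩ := (Presieve.mem_comap_jointlySurjectivePrecoverage_iff _).1 hR1 p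
    exact ⟨S', f, hf, h⟩
  choose S' f hf hp using hR1'
  have hfp : ∀ p, (@Flat ⊓ @LocallyOfFinitePresentation : MorphismProperty Scheme.{u}) (f p) :=
    fun p => hR2 (hf p)
  have h1 : ∀ p, Flat (f p) := fun p => (hfp p).1
  have h2 : ∀ p, LocallyOfFinitePresentation (f p) := fun p => (hfp p).2
  choose s hs using fun p => hsec (f p) (hf p)
  have hsnd : Etale (pullback.snd q q) := by
    rw [← pullbackSymmetry_hom_comp_fst]
    have := c.etale_fst
    infer_instance
  constructor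
  · refine Groth.Agent.GrpQ.H776.DescFamily.of_family @Etale q S' (fun p => pullback q (f p)) f
      (fun p => pullback.fst q (f p)) (fun p => pullback.snd q (f p))
      (fun p => IsPullback.of_hasPullback q (f p)) (fun p => ⟨p, hp p⟩) (fun p => ?_)
    have hsp : s p ≫ q = f p := hs p
    let m : pullback q (f p) ⟶ pullback q q := pullback.lift (pullback.fst q (f p))
      (pullback.snd q (f p) ≫ s p) (by rw [Category.assoc, hsp, pullback.condition])
    have hm1 : m ≫ pullback.fst q q = pullback.fst q (f p) := pullback.lift_fst _ _ _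
    have hm2 : m ≫ pullback.snd q q = pullback.snd q (f p) ≫ s p := pullback.lift_snd _ _ _
    have hpb : IsPullback m (pullback.snd q (f p)) (pullback.snd q q) (s p) := by
      have hout : IsPullback (m ≫ pullback.fst q q) (pullback.snd q (f p)) q (s p ≫ q) := by
        rw [hm1, hsp]
        exact IsPullback.of_hasPullback q (f p)
      exact IsPullback.of_right hout hm2 (IsPullback.of_hasPullback q q)
    exact MorphismProperty.of_isPullback (P := @Etale) hpb hsnd
  · constructor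
    intro p
    obtain ⟨t, ht⟩ := hp p
    refine ⟨s p t, ?_⟩
    have hsp : s p ≫ q = f p := hs p
    rw [← Scheme.Hom.comp_apply, hsp, ht]

include c in
/-- An open subscheme of `E` which meets each fibre of `q` and which is disjoint from its translates maps
isomorphically to `P`. -/
theorem isIso_of_open [Etale q] (U : E.Opens) (hU1 : ∀ p : P, ∃ e : E, e ∈ U ∧ q e = p)
    (hU2 : ∀ e : E, e ∈ U → ∀ z, c.ρ z e ∈ U → z = 1) : IsIso (U.ι ≫ q) := by
  have hmono : Mono (U.ι ≫ q) := by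
    constructor
    intro T x y hxy
    have hxy' : (x ≫ U.ι) ≫ q = (y ≫ U.ι) ≫ q := by simpa using hxy
    obtain ⟨V, h1, h2⟩ := c.dec _ _ hxy'
    have htop : V 1 = ⊤ := by
      rw [eq_top_iff]
      intro t _
      obtain ⟨z, hz, -⟩ := h1 t
      have h3 := congrArg (fun f => f ⟨t, hz⟩) (h2 z)
      simp only [Scheme.Hom.comp_apply, Scheme.Opens.ι_apply] at h3
      have h4 : z = 1 := hU2 _ (x t).2 z (by rw [← h3]; exact (y t).2)
      rw [h4] at hz
      exact hz
    have h3 := h2 1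
    rw [c.ρ_one, Category.comp_id] at h3
    have hι : IsIso (V 1).ι := by
      rw [htop]; exact inferInstanceAs (IsIso (Scheme.topIso _).hom)
    rw [cancel_epi] at h3
    rw [← cancel_mono U.ι]
    exact h3.symm
  have hsurj : Surjective (U.ι ≫ q) := by
    constructor
    intro p
    obtain ⟨e, he, rfl⟩ := hU1 p
    exact ⟨⟨e, he⟩, by simp⟩
  have hopen : IsOpenImmersion (U.ι ≫ q) := IsOpenImmersion.of_flat_of_mono (U.ι ≫ q)
  exact (isIso_iff_isOpenImmersion_and_surjective _).2 ⟨hopen, hsurj⟩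

include c in
theorem exists_section_of_open [Etale q] (U : E.Opens) (hU1 : ∀ p : P, ∃ e : E, e ∈ U ∧ q e = p)
    (hU2 : ∀ e : E, e ∈ U → ∀ z, c.ρ z e ∈ U → z = 1) :
    ∃ s : P ⟶ E, s ≫ q = 𝟙 P ∧ ∀ p, s p ∈ U := by
  have := c.isIso_of_open U hU1 hU2
  refine ⟨inv (U.ι ≫ q) ≫ U.ι, by simp, fun p => ?_⟩
  rw [Scheme.Hom.comp_apply]
  exact (inv (U.ι ≫ q) p).2

/-- The stabilizer of a point is finite. -/
theorem finite_stabilizer (e : E) : {z : Z | c.ρ z e = e}.Finite := by
  let κ := E.residueField e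
  let i : Spec κ ⟶ E := E.fromSpecResidueField e
  let k := P.residueField (q e)
  let π : Spec κ ⟶ Spec k := Spec.map (q.residueFieldMap e)
  have hπ : i ≫ q = π ≫ P.fromSpecResidueField (q e) :=
    (Scheme.Hom.SpecMap_residueFieldMap_fromSpecResidueField q e).symm
  let T := pullback π π
  let x : T ⟶ E := pullback.fst π π ≫ i
  let y : T ⟶ E := pullback.snd π π ≫ i
  have hxy : x ≫ q = y ≫ q := by
    simp only [x, y, Category.assoc, hπ]
    rw [pullback.condition_assoc]
  obtain ⟨V, h1, h2⟩ := c.dec x y hxy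
  have hT : CompactSpace T := inferInstance
  -- finitely many `V z` are nonempty
  have hfin : {z : Z | (V z : Set T).Nonempty}.Finite := by
    obtain ⟨s, hs⟩ := isCompact_univ.elim_finite_subcover (fun z => (V z : Set T))
      (fun z => (V z).2) (fun t _ => by
        obtain ⟨z, hz, -⟩ := h1 t
        exact Set.mem_iUnion.2 ⟨z, hz⟩)
    refine s.finite_toSet.subset ?_
    rintro z ⟨t, ht⟩
    obtain ⟨w, hw⟩ := Set.mem_iUnion.1 (hs (Set.mem_univ t))
    obtain ⟨hws, htw⟩ := Set.mem_iUnion.1 hw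
    have := (h1 t).unique ht htw
    rw [this]
    exact hws
  refine hfin.subset ?_
  intro z hz
  have hex : ∀ e' : E, c.ρ z e = e' → ∃ σ : Spec κ ⟶ Spec (E.residueField e'),
      σ ≫ E.fromSpecResidueField e' = i ≫ c.ρ z := by
    rintro _ rfl
    exact ⟨_, Scheme.Hom.SpecMap_residueFieldMap_fromSpecResidueField (c.ρ z) e⟩
  obtain ⟨σ, hσ⟩ := hex e hz
  have hmono : Mono (P.fromSpecResidueField (q e)) := inferInstance
  have hσπ : σ ≫ π = π := by
    rw [← cancel_mono (P.fromSpecResidueField (q e)), Category.assoc, ← hπ, reassoc_of% hσ, c.ρ_q]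
  let j : Spec κ ⟶ T := pullback.lift (𝟙 _) σ (by rw [hσπ, Category.id_comp])
  have hj1 : j ≫ pullback.fst π π = 𝟙 _ := pullback.lift_fst _ _ _
  have hj2 : j ≫ pullback.snd π π = σ := pullback.lift_snd _ _ _
  have hmem := c.mem_of_comp h1 h2 j z (by
    simp only [x, y]
    rw [reassoc_of% hj2, Category.assoc, reassoc_of% hj1]
    exact hσ) (IsLocalRing.closedPoint κ)
  exact ⟨_, hmem⟩

/-- If `Z` has no nontrivial elements of finite order, stabilizers are trivial. -/
theorem eq_one_of_fixed (hZ : ∀ z : Z, IsOfFinOrder z → z = 1) {e : E} {z : Z} (h : c.ρ z e = e) :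
    z = 1 := by
  apply hZ
  rw [← finite_powers]
  refine (c.finite_stabilizer e).subset ?_
  rintro _ ⟨n, rfl⟩
  induction n with
  | zero => simp [c.ρ_one_apply]
  | succ n ih =>
    simp only [pow_succ, Set.mem_ofPred_eq] at ih ⊢
    rw [c.ρ_mul_apply, h]
    exact ih

end CT

end K564.ConstTors
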