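import Mathlib.CategoryTheory.Monoidal.Cartesian.Grp
import Groth.Agent.SGA7.K564.CTBasic

/-!
# Formal properties of extensions of group objects
-/

set_option autoImplicit false
universe v u

open CategoryTheory CategoryTheory.Limits MonoidalCategory CartesianMonoidalCategory MonObj GrpObj AlgebraicGeometry

namespace K564.ExtAlg

section Hom

variable {C : Type u} [Category.{v} C] [CartesianMonoidalCategory C] [BraidedCategory C]

theorem isMonHom_of_mul {A B : C} [GrpObj A] [GrpObj B] (f : A ⟶ B)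
    (h : ∀ {T : C} (a b : T ⟶ A), (a * b) ≫ f = (a ≫ f) * (b ≫ f)) : IsMonHom f := by
  have h1 : η[A] ≫ f = η[B] := by
    have := h (η[A]) (η[A])
    rw [one_eq_one, _root_.mul_one] at this
    rw [one_eq_one, one_eq_one]
    exact (mul_eq_left.mp this.symm)
  refine ⟨h1, ?_⟩
  have := h (fst A A) (snd A A)
  rw [← MonObj.mul_eq_mul] at this
  rw [this, Hom.mul_def]
  congr 1
  ext <;> simp

variable {A B D : C} [GrpObj A] [GrpObj B] [GrpObj D] [IsCommMonObj B]

theorem isMonHom_mul (f g : A ⟶ B) [IsMonHom f] [IsMonHom g] : IsMonHom (f * g) :=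
  isMonHom_of_mul _ fun a b => by
    rw [comp_mul, comp_mul, comp_mul, MonObj.mul_comp, MonObj.mul_comp, _root_.mul_mul_mul_comm]

theorem isMonHom_inv (f : A ⟶ B) [IsMonHom f] : IsMonHom (f⁻¹) :=
  isMonHom_of_mul _ fun a b => by
    rw [comp_inv, comp_inv, comp_inv, MonObj.mul_comp, _root_.mul_inv]

end Hom

section Ext

variable {C : Type u} [Category.{v} C] [CartesianMonoidalCategory C]
variable {G E P : C} [GrpObj G] [GrpObj E] [GrpObj P]

omit [GrpObj G] in
theorem lift_pb (u : G ⟶ E) {T : C} (x : T ⟶ E) (g : T ⟶ G) :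
    lift x g ≫ (E ◁ u) ≫ μ[E] = x * (g ≫ u) := by
  rw [Hom.mul_def, ← Category.assoc]
  congr 1
  apply CartesianMonoidalCategory.hom_ext <;> simp

omit [GrpObj P] in
/-- the kernel is a monomorphism. -/
theorem mono_of_pb (u : G ⟶ E) (v : E ⟶ P) (hpb : IsPullback (fst E G) ((E ◁ u) ≫ μ[E]) v v) : Mono u := by
  constructor
  intro T g g' h
  have h2 : lift (1 : T ⟶ E) g = lift (1 : T ⟶ E) g' := by
    apply hpb.hom_ext
    · rw [lift_fst, lift_fst]
    · rw [lift_pb, lift_pb, h]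
  have h5 := congrArg (fun f => f ≫ snd E G) h2
  simpa using h5

omit [GrpObj P] in
/-- two points of `E` over the same point of `P` differ by a point of `G`. -/
theorem exists_diff_of_pb (u : G ⟶ E) (v : E ⟶ P) (hpb : IsPullback (fst E G) ((E ◁ u) ≫ μ[E]) v v)
    {T : C} (x y : T ⟶ E) (h : x ≫ v = y ≫ v) : ∃ g : T ⟶ G, y = x * (g ≫ u) := by
  let l : T ⟶ E ⊗ G := hpb.lift x y h
  have hl1 : l ≫ fst E G = x := hpb.lift_fst _ _ _
  have hl2 : l ≫ (E ◁ u) ≫ μ[E] = y := hpb.lift_snd _ _ _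
  refine ⟨l ≫ snd E G, ?_⟩
  have h1 : l = lift x (l ≫ snd E G) := by
    apply CartesianMonoidalCategory.hom_ext <;> simp [hl1]
  have h2 := lift_pb u x (l ≫ snd E G)
  rw [← h1, hl2] at h2
  exact h2

/-- a point of `E` over the unit of `P` comes from `G`. -/
theorem exists_lift_of_pb (u : G ⟶ E) (v : E ⟶ P) [IsMonHom v] (hpb : IsPullback (fst E G) ((E ◁ u) ≫ μ[E]) v v)
    {T : C} (x : T ⟶ E) (hx : x ≫ v = 1) : ∃ g : T ⟶ G, g ≫ u = x := by
  obtain ⟨g, hg⟩ := exists_diff_of_pb u v hpb (1 : T ⟶ E) x (by rw [one_comp, hx])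
  exact ⟨g, by rw [hg, _root_.one_mul]⟩

end Ext

end K564.ExtAlg
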