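import Groth.Agent.SGA7.K564.CTBase

/-!
# Base change of an extension with locally constant kernel
-/

set_option autoImplicit false
universe u

open CategoryTheory CategoryTheory.Limits MonoidalCategory CartesianMonoidalCategory MonObj GrpObj AlgebraicGeometry
open K564.ConstTors

namespace K564.ExtBase

section ULift

variable {S : Scheme.{u}} {M : Type} [Group M]

/-- the constant scheme only depends on the index type up to universe lifting. -/
noncomputable def constULift (S : Scheme.{u}) (M : Type) : TwC.const S M ≅ TwC.const S (ULift.{u} M) where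
  hom := TwC.constMap S ULift.up
  inv := TwC.constMap S ULift.down
  hom_inv_id := by
    apply Over.OverMorphism.ext
    apply Sigma.hom_ext
    intro m
    simp [TwC.constMap]
  inv_hom_id := by
    apply Over.OverMorphism.ext
    apply Sigma.hom_ext
    intro m
    simp [TwC.constMap]

theorem isConstGrp_ulift {G : Over S} [GrpObj G] (e : G ≅ TwC.const S M) (h : TwC.IsConstGrp M G e) :
    TwC.IsConstGrp (ULift.{u} M) G (e ≪≫ constULift S M) := by
  intro m n
  have h1 : ∀ m : ULift.{u} M, TwC.pt S (ULift.{u} M) m ≫ (e ≪≫ constULift S M).inv = TwC.pt S M m.down ≫ e.inv := by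
    intro m
    rw [Iso.trans_inv, ← Category.assoc]
    congr 1
    apply Over.OverMorphism.ext
    simp [TwC.pt, constULift, TwC.constMap]
  rw [h1, h1, h1]
  exact h _ _

end ULift

section Bc

variable {S S' : Scheme.{u}} (g : S' ⟶ S) {G E P : Over S} [GrpObj G] [GrpObj E] [GrpObj P]

omit [GrpObj G] [GrpObj P] in
theorem isPullback_bc (u : G ⟶ E) (v : E ⟶ P) (hpb : IsPullback (fst E G) ((E ◁ u) ≫ μ[E]) v v) :
    IsPullback (fst (Red.bc g E) (Red.bc g G)) ((Red.bc g E ◁ (Over.pullback g).map u) ≫ μ[Red.bc g E])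
      ((Over.pullback g).map v) ((Over.pullback g).map v) := by
  have h1 := hpb.map (Over.pullback g)
  refine IsPullback.of_iso h1 (Functor.Monoidal.μIso (Over.pullback g) E G).symm (Iso.refl _) (Iso.refl _)
    (Iso.refl _) ?_ ?_ ?_ ?_
  · rw [Iso.refl_hom, Category.comp_id, Iso.symm_hom, Iso.eq_inv_comp]
    exact (Functor.Monoidal.μ_fst (Over.pullback g) E G)
  · rw [Iso.refl_hom, Category.comp_id, Iso.symm_hom, Iso.eq_inv_comp, Functor.map_comp]
    change Functor.LaxMonoidal.μ (Over.pullback g) E G ≫ _ = _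
    rw [← Category.assoc, ← Functor.LaxMonoidal.μ_natural_right, Category.assoc]
    rfl
  · simp
  · simp

theorem isMonHom_map (u : G ⟶ E) [IsMonHom u] : IsMonHom ((Over.pullback g).map u : Red.bc g G ⟶ Red.bc g E) :=
  inferInstanceAs (IsMonHom ((Over.pullback g).map u))

theorem map_comp_eq_one (u : G ⟶ E) (v : E ⟶ P) (h : u ≫ v = 1) :
    ((Over.pullback g).map u : Red.bc g G ⟶ Red.bc g E) ≫ (Over.pullback g).map v = 1 := by
  rw [← Functor.map_comp, h]
  exact Functor.map_one (F := Over.pullback g)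

/-- The constant translations of the base change of an extension to a base over which the kernel is constant. -/
noncomputable def ctBc {Z : Type u} [Group Z] {e : Red.bc g G ≅ TwC.const S' Z}
    (he : TwC.IsConstGrp Z (Red.bc g G) e) (u : G ⟶ E) (v : E ⟶ P) [IsMonHom u] [IsMonHom v] (huv : u ≫ v = 1)
    (hpb : IsPullback (fst E G) ((E ◁ u) ≫ μ[E]) v v) : CT ((Over.pullback g).map v).left Z :=
  haveI := isMonHom_map g u
  haveI := isMonHom_map g v
  ofExt he ((Over.pullback g).map u) ((Over.pullback g).map v) (map_comp_eq_one g u v huv)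
    (isPullback_bc g u v hpb)

omit [GrpObj E] [GrpObj P] in
theorem isPullback_left (v : E ⟶ P) :
    IsPullback (pullback.fst E.hom g) ((Over.pullback g).map v).left v.left (pullback.fst P.hom g) := by
  refine IsPullback.of_bot (v₂₁ := pullback.snd P.hom g) (v₂₂ := P.hom) (h₃₁ := g) ?_ ?_
    (IsPullback.of_hasPullback P.hom g)
  · have h1 : ((Over.pullback g).map v).left ≫ pullback.snd P.hom g = pullback.snd E.hom g :=
      Over.w ((Over.pullback g).map v)
    have h2 : v.left ≫ P.hom = E.hom := Over.w v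
    rw [h1, h2]
    exact IsPullback.of_hasPullback E.hom g
  · exact (pullback.lift_fst _ _ _).symm

/-- pointwise form of local triviality -/
def LocTriv {E P : Scheme.{u}} (q : E ⟶ P) : Prop :=
  ∀ p : P, ∃ (U : Scheme.{u}) (f : U ⟶ P) (s : U ⟶ E), Flat f ∧ LocallyOfFinitePresentation f ∧
      p ∈ Set.range f ∧ s ≫ q = f

theorem locTriv_of {E P : Scheme.{u}} (q : E ⟶ P)
    (hloc : NonAbH1.IsLocallyTrivialFor Scheme.fppfPrecoverage (Over.mk q)) : LocTriv q := by
  obtain ⟨R, hR, hsec⟩ := hloc
  obtain ⟨hR1, hR2⟩ : R ∈ (Scheme.jointlySurjectivePrecoverage ⊓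
    MorphismProperty.precoverage (@Flat ⊓ @LocallyOfFinitePresentation)) P := hR
  intro p
  obtain ⟨S', f, hf, h⟩ := (Presieve.mem_comap_jointlySurjectivePrecoverage_iff _).1 hR1 p
  have hfp : (@Flat ⊓ @LocallyOfFinitePresentation : MorphismProperty Scheme.{u}) f := hR2 hf
  obtain ⟨s, hs⟩ := hsec f hf
  exact ⟨S', f, s, hfp.1, hfp.2, h, hs⟩

theorem LocTriv.baseChange {E P E' P' : Scheme.{u}} {q : E ⟶ P} {q' : E' ⟶ P'} {a : E' ⟶ E} {b : P' ⟶ P}
    (hpb : IsPullback a q' q b) (h : LocTriv q) : LocTriv q' := by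
  intro p'
  obtain ⟨U, f, s, hf1, hf2, ⟨u0, hu0⟩, hs⟩ := h (b p')
  obtain ⟨u1, hu1, -⟩ := Scheme.Pullback.exists_preimage_pullback (f := b) (g := f) p' u0 hu0.symm
  refine ⟨pullback b f, pullback.fst b f, hpb.lift (pullback.snd b f ≫ s) (pullback.fst b f) ?_,
    inferInstance, inferInstance, ⟨u1, hu1⟩, hpb.lift_snd _ _ _⟩
  rw [Category.assoc, hs, pullback.condition]

end Bc

end K564.ExtBase
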