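import Groth.Agent.SGA7.K564.CTUnibr
import Groth.Agent.SGA7.K564.CTFibres
import Groth.Agent.SGA7.K564.ExtAlg
import Groth.Prelude.Def_Red

/-!
# Base change for torsors and extensions by constant groups; existence over a general base
-/

set_option autoImplicit false
universe u

open CategoryTheory CategoryTheory.Limits MonoidalCategory CartesianMonoidalCategory MonObj GrpObj AlgebraicGeometry

namespace K564.ConstTors

theorem isGeomUnibranch_of_isField (A : Type u) [CommRing A] [IsLocalRing A] (hA : IsField A) :
    CAlg2.IsGeomUnibranch A := by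
  have hdom : IsDomain A := hA.isDomain
  have hnil : nilradical A = ⊥ := nilradical_eq_zero A
  let e : CAlg2.red A ≃+* A := (Ideal.quotEquivOfEq hnil).trans (RingEquiv.quotientBot A)
  have hred : IsField (CAlg2.red A) := e.toMulEquiv.isField hA
  have hd : IsDomain (CAlg2.red A) := hred.isDomain
  let _ := hred.toField
  have hsurj : Function.Surjective (algebraMap (CAlg2.red A) (CAlg2.normRed A)) := by
    intro x
    have h1 : Function.Surjective (algebraMap (CAlg2.red A) (FractionRing (CAlg2.red A))) :=
      (IsFractionRing.surjective_iff_isField).2 hred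
    obtain ⟨a, ha⟩ := h1 x.1
    exact ⟨a, Subtype.ext ha⟩
  refine ⟨⟨hd, ?_⟩, ?_⟩
  · exact IsLocalRing.of_surjective' _ hsurj
  · intro m' hm' x
    refine ⟨0, ?_⟩
    rw [pow_zero, pow_one]
    obtain ⟨y, rfl⟩ := Ideal.Quotient.mk_surjective x
    obtain ⟨b, rfl⟩ := hsurj y
    obtain ⟨a, rfl⟩ := Ideal.Quotient.mk_surjective b
    exact ⟨a, rfl⟩

theorem isGeomUnibranch_stalk_field (k : Type u) [Field k] (s : Spec (CommRingCat.of k)) :
    CAlg2.IsGeomUnibranch ((Spec (CommRingCat.of k)).presheaf.stalk s) := by
  apply isGeomUnibranch_of_isField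
  have hs : s = genericPoint ↥(Spec (CommRingCat.of k)) := Subsingleton.elim _ _
  subst hs
  exact Field.toIsField (Spec (CommRingCat.of k)).functionField

namespace CT

variable {E P : Scheme.{u}} {q : E ⟶ P} {Z : Type u} [Group Z] (c : CT q Z)

/-- base change of translations. -/
noncomputable def baseChange {P' : Scheme.{u}} (f : P' ⟶ P) : CT (pullback.snd q f) Z where
  ρ z := pullback.lift (pullback.fst q f ≫ c.ρ z) (pullback.snd q f) (by
    rw [Category.assoc, c.ρ_q, pullback.condition])
  ρ_q z := pullback.lift_snd _ _ _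
  ρ_one := by
    apply pullback.hom_ext
    · rw [pullback.lift_fst, c.ρ_one, Category.comp_id, Category.id_comp]
    · rw [pullback.lift_snd, Category.id_comp]
  ρ_mul z w := by
    apply pullback.hom_ext
    · rw [pullback.lift_fst, Category.assoc, pullback.lift_fst, pullback.lift_fst_assoc, c.ρ_mul,
        Category.assoc]
    · rw [pullback.lift_snd, Category.assoc, pullback.lift_snd, pullback.lift_snd]
  dec {T} x y h := by
    obtain ⟨V, h1, h2⟩ := c.dec (x ≫ pullback.fst q f) (y ≫ pullback.fst q f) (by
      rw [Category.assoc, Category.assoc, pullback.condition, reassoc_of% h])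
    refine ⟨V, h1, fun z => ?_⟩
    apply pullback.hom_ext
    · simp only [Category.assoc, pullback.lift_fst]
      simpa only [Category.assoc] using h2 z
    · rw [Category.assoc, ← h, Category.assoc, Category.assoc, pullback.lift_snd]
  free {T} _ x z h := by
    apply c.free (x ≫ pullback.fst q f) z
    have h1 := congrArg (fun f' => f' ≫ pullback.fst q f) h
    simp only [Category.assoc, pullback.lift_fst] at h1
    rw [Category.assoc, h1]

include c in
/-- Two liftings of a morphism `T → P` agreeing along a section of `T → S` agree. -/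
theorem eq_of_section {T S : Scheme.{u}} (p : T ⟶ S) [GeometricallyConnected p] (e : S ⟶ T) (he : e ≫ p = 𝟙 S)
    (x y : T ⟶ E) (hxy : x ≫ q = y ≫ q) (h : e ≫ x = e ≫ y) : x = y := by
  obtain ⟨V, h1, h2⟩ := c.dec x y hxy
  have htop : V 1 = ⊤ := by
    rw [eq_top_iff]
    intro t _
    have hpre := (p.isConnected_preimage_singleton (p t)).isPreconnected
    refine hpre.subset_isClopen (isClopen_of_dec h1 1) ⟨e (p t), ?_, ?_⟩ rfl
    · change p (e (p t)) = p t
      rw [← Scheme.Hom.comp_apply e, he]; rfl
    · exact c.mem_of_comp h1 h2 e 1 (by rw [c.ρ_one, Category.comp_id, h]) (p t)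
  have h3 := h2 1
  rw [c.ρ_one, Category.comp_id] at h3
  have hι : IsIso (V 1).ι := by
    rw [htop]; exact inferInstanceAs (IsIso (Scheme.topIso _).hom)
  rw [cancel_epi] at h3
  exact h3.symm

include c in
/-- Torsors under a torsion free constant group, with a given point over the unit section, over a smooth
quasi-compact and quasi-separated `P → S` with geometrically connected fibres are trivial. -/
theorem exists_section_of_smooth {S : Scheme.{u}} (hZ : ∀ z : Z, IsOfFinOrder z → z = 1)
    (p : P ⟶ S) [Smooth p] [QuasiCompact p] [QuasiSeparated p] [GeometricallyConnected p] [Etale q] [Surjective q]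
    (e : S ⟶ P) (he : e ≫ p = 𝟙 S) (e' : S ⟶ E) (he' : e' ≫ q = e) :
    ∃ g : P ⟶ E, g ≫ q = 𝟙 P ∧ e ≫ g = e' := by
  refine c.exists_section_of_fibres p e he e' he' (fun s => ?_)
  let f := pullback.fst p (S.fromSpecResidueField s)
  obtain ⟨σ, hσ⟩ := (c.baseChange f).exists_section_of_smooth_geomUnibranch hZ
    (fun t => isGeomUnibranch_stalk_field (S.residueField s) t) (pullback.snd p (S.fromSpecResidueField s))
  refine ⟨σ ≫ pullback.fst q f, ?_⟩
  rw [Category.assoc, pullback.condition, reassoc_of% hσ]

include c in
theorem etale_surjective'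
    (hloc : ∀ p : P, ∃ (U : Scheme.{u}) (f : U ⟶ P) (s : U ⟶ E), Flat f ∧ LocallyOfFinitePresentation f ∧
      p ∈ Set.range f ∧ s ≫ q = f) : Etale q ∧ Surjective q := by
  choose S' f s h1 h2 hp hs using hloc
  have hsnd : Etale (pullback.snd q q) := by
    rw [← pullbackSymmetry_hom_comp_fst]
    have := c.etale_fst
    infer_instance
  constructor
  · refine Groth.Agent.GrpQ.H776.DescFamily.of_family @Etale q S' (fun p => pullback q (f p)) f
      (fun p => pullback.fst q (f p)) (fun p => pullback.snd q (f p))
      (fun p => IsPullback.of_hasPullback q (f p)) (fun p => ⟨p, hp p⟩) (fun p => ?_)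
    have hsp : s p ≫ q = f p := hs p
    let m : pullback q (f p) ⟶ pullback q q := pullback.lift (pullback.fst q (f p))
      (pullback.snd q (f p) ≫ s p) (by rw [Category.assoc, hsp, pullback.condition])
    have hm1 : m ≫ pullback.fst q q = pullback.fst q (f p) := pullback.lift_fst _ _ _
    have hm2 : m ≫ pullback.snd q q = pullback.snd q (f p) ≫ s p := pullback.lift_snd _ _ _
    have hpb : IsPullback m (pullback.snd q (f p)) (pullback.snd q q) (s p) := by
      have hout : IsPullback (m ≫ pullback.fst q q) (pullback.snd q (f p)) q (s p ≫ q) := by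
        rw [hm1, hsp]
        exact IsPullback.of_hasPullback q (f p)
      exact IsPullback.of_right hout hm2 (IsPullback.of_hasPullback q q)
    exact MorphismProperty.of_isPullback (P := @Etale) hpb hsnd
  · constructor
    intro p
    obtain ⟨t, ht⟩ := hp p
    refine ⟨s p t, ?_⟩
    have hsp : s p ≫ q = f p := hs p
    rw [← Scheme.Hom.comp_apply, hsp, ht]

end CT

end K564.ConstTors
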