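import Groth.Prelude.Def_TwC
import Groth.Prelude.Def_NonAbH2
import Groth.Agent.Books.BorelOrb
import Groth.Agent.GrpQ.H776.DescFamily
import Groth.Agent.S3694
import Mathlib.AlgebraicGeometry.Morphisms.UniversallyInjective
import Mathlib.AlgebraicGeometry.Morphisms.LocalFlatDescent

/-!
# Torsors under constant groups

`K564.ConstTors.CT q Z`: a morphism `q : E ⟶ P` with translations `ρ z : E ⟶ E` (`z : Z`), such that two `T`-points
of `E` over the same point of `P` differ by a (unique) locally constant function `T → Z`.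
It is constructed from an fppf torsor (`NonAbH1.TorsorSch`) under a constant group (`TwC.IsConstGrp`), and from an
exact sequence (`NonAbH1.IsExactSeq`) with constant kernel.
-/

set_option autoImplicit false
universe u

open CategoryTheory CategoryTheory.Limits MonoidalCategory CartesianMonoidalCategory MonObj GrpObj AlgebraicGeometry
open Groth.Agent.Books.BorelOrb

namespace K564.ConstTors

/-- a morphism with a simply transitive "constant" group of translations. -/
structure CT {E P : Scheme.{u}} (q : E ⟶ P) (Z : Type u) [Group Z] where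
  ρ : Z → (E ⟶ E)
  ρ_q : ∀ z, ρ z ≫ q = q
  ρ_one : ρ 1 = 𝟙 E
  ρ_mul : ∀ z w, ρ (z * w) = ρ w ≫ ρ z
  dec : ∀ {T : Scheme.{u}} (x y : T ⟶ E), x ≫ q = y ≫ q →
    ∃ V : Z → T.Opens, (∀ t : T, ∃! z, t ∈ V z) ∧ ∀ z, (V z).ι ≫ y = (V z).ι ≫ x ≫ ρ z
  free : ∀ {T : Scheme.{u}} [Nonempty T] (x : T ⟶ E) (z : Z), x ≫ ρ z = x → z = 1

section Const

variable {S : Scheme.{u}} {Z : Type u} [Group Z] {G : Over S} [GrpObj G] (eG : G ≅ TwC.const S Z)

/-- the constant point of index `z`. -/
noncomputable def cpt (z : Z) : 𝟙_ (Over S) ⟶ G := TwC.pt S Z z ≫ eG.inv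

variable {eG}

omit [Group Z] [GrpObj G] in
theorem cpt_left_hom (z : Z) : (cpt eG z).left ≫ eG.hom.left = Sigma.ι (fun _ : Z => S) z := by
  rw [← Over.comp_left, cpt, Category.assoc, Iso.inv_hom_id, Category.comp_id]
  rfl

theorem cpt_mul (hG : TwC.IsConstGrp Z G eG) (z w : Z) : cpt eG (z * w) = cpt eG z * cpt eG w :=
  (hG z w).symm

theorem cpt_one (hG : TwC.IsConstGrp Z G eG) : cpt eG (1 : Z) = 1 := by
  have h := cpt_mul hG 1 1
  rw [_root_.mul_one] at h
  exact mul_eq_left.1 h.symm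

theorem cpt_inv (hG : TwC.IsConstGrp Z G eG) (z : Z) : cpt eG z⁻¹ = (cpt eG z)⁻¹ := by
  rw [eq_inv_iff_mul_eq_one, ← cpt_mul hG, inv_mul_cancel, cpt_one hG]

omit [Group Z] [GrpObj G] in
/-- a point of a constant scheme is locally constant. -/
theorem const_dec {T : Over S} (g : T ⟶ G) :
    ∃ V : Z → T.left.Opens, (∀ t : T.left, ∃! z, t ∈ V z) ∧
      ∀ z, (V z).ι ≫ g.left = (V z).ι ≫ (toUnit T ≫ cpt eG z).left := by
  let φ : T.left ⟶ ∐ (fun _ : Z => S) := g.left ≫ eG.hom.left
  let V : Z → T.left.Opens := fun z => φ ⁻¹ᵁ (Sigma.ι (fun _ : Z => S) z).opensRange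
  refine ⟨V, fun t => ?_, fun z => ?_⟩
  · obtain ⟨z, y, hy⟩ := (sigmaOpenCover (fun _ : Z => S)).exists_eq (φ t)
    refine ⟨z, ⟨y, hy⟩, ?_⟩
    rintro w ⟨y', hy'⟩
    have h1 : Sigma.ι (fun _ : Z => S) w y' = Sigma.ι (fun _ : Z => S) z y := hy'.trans hy.symm
    rw [sigmaι_eq_iff] at h1
    exact congrArg Sigma.fst h1
  · have hr : Set.range ((V z).ι ≫ φ) ⊆ Set.range (Sigma.ι (fun _ : Z => S) z) := by
      rintro _ ⟨t, rfl⟩
      exact t.2
    let l : (V z).toScheme ⟶ S := IsOpenImmersion.lift (Sigma.ι (fun _ : Z => S) z) ((V z).ι ≫ φ) hr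
    have hl : l ≫ Sigma.ι (fun _ : Z => S) z = (V z).ι ≫ φ := IsOpenImmersion.lift_fac _ _ _
    have hl2 : l = (V z).ι ≫ T.hom := by
      have h1 : (l ≫ Sigma.ι (fun _ : Z => S) z) ≫ Sigma.desc (fun _ : Z => 𝟙 S) = l := by simp
      rw [← h1, hl]
      have h2 : eG.hom.left ≫ Sigma.desc (fun _ : Z => 𝟙 S) = G.hom := Over.w eG.hom
      rw [Category.assoc, Category.assoc, h2, Over.w]
    have : IsIso eG.hom.left := inferInstanceAs (IsIso ((Over.forget S).map eG.hom))
    rw [← cancel_mono eG.hom.left, Category.assoc, Category.assoc, Over.comp_left, Over.toUnit_left,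
      Category.assoc, cpt_left_hom, ← Category.assoc (V z).ι T.hom, ← hl2, hl]

omit [Group Z] [GrpObj G] in
theorem cpt_injective {T : Over S} [Nonempty T.left] {z w : Z}
    (h : toUnit T ≫ cpt eG z = toUnit T ≫ cpt eG w) : z = w := by
  obtain ⟨t⟩ := ‹Nonempty T.left›
  have h1 : T.hom ≫ Sigma.ι (fun _ : Z => S) z = T.hom ≫ Sigma.ι (fun _ : Z => S) w := by
    have h2 := congrArg (fun a => a.left ≫ eG.hom.left) h
    simp only [Over.comp_left, Over.toUnit_left, Category.assoc, cpt_left_hom] at h2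
    exact h2
  have h3 : Sigma.ι (fun _ : Z => S) z (T.hom t) = Sigma.ι (fun _ : Z => S) w (T.hom t) := by
    rw [← Scheme.Hom.comp_apply, h1, Scheme.Hom.comp_apply]
  rw [sigmaι_eq_iff] at h3
  exact congrArg Sigma.fst h3

end Const

section Torsor

variable {P : Scheme.{u}} {Z : Type u} [Group Z] {G X : Over P} [GrpObj G] {eG : G ≅ TwC.const P Z}

/-- An (fppf pseudo-)torsor under a constant group has constant translations. -/
noncomputable def ofTorsor (hG : TwC.IsConstGrp Z G eG) (a : AlgGrp.Action G X)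
    (ha : NonAbH1.IsPseudoTorsorSch a) : CT X.hom Z where
  ρ z := (tr a (cpt eG z)).left
  ρ_q z := Over.w _
  ρ_one := by rw [cpt_one hG, tr_one]; rfl
  ρ_mul z w := by
    rw [← Over.comp_left]
    congr 1
    rw [comp_tr, tr, tr, cpt_mul hG, comp_mul, mul_sm]
  dec {T} x y h := by
    have ha' : IsIso (lift a.act (snd G X)) := ha
    let T' : Over P := Over.mk (x ≫ X.hom)
    let x' : T' ⟶ X := Over.homMk x rfl
    let y' : T' ⟶ X := Over.homMk y h.symm
    let g : T' ⟶ G := lift y' x' ≫ inv (lift a.act (snd G X)) ≫ fst G X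
    have hg : sm a g x' = y' := by
      have h1 : lift g x' = lift y' x' ≫ inv (lift a.act (snd G X)) := by
        apply CartesianMonoidalCategory.hom_ext
        · rw [lift_fst]; simp [g]
        · rw [lift_snd, Category.assoc]
          have h2 : inv (lift a.act (snd G X)) ≫ snd G X = snd X X := by
            rw [IsIso.inv_comp_eq, lift_snd]
          rw [h2, lift_snd]
      rw [sm, h1, Category.assoc]
      have h3 : inv (lift a.act (snd G X)) ≫ a.act = fst X X := by
        rw [IsIso.inv_comp_eq, lift_fst]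
      rw [h3, lift_fst]
    obtain ⟨V, hV1, hV2⟩ := const_dec (eG := eG) g
    refine ⟨V, hV1, fun z => ?_⟩
    let U : Over P := Over.mk ((V z).ι ≫ T'.hom)
    let j : U ⟶ T' := Over.homMk (V z).ι rfl
    have hj : j ≫ g = j ≫ toUnit T' ≫ cpt eG z := by
      apply Over.OverMorphism.ext
      rw [Over.comp_left, Over.comp_left]
      exact hV2 z
    have h4 : j ≫ y' = j ≫ x' ≫ tr a (cpt eG z) := by
      rw [comp_tr, comp_sm, ← hj, ← hg, comp_sm]
    exact congrArg (fun f => f.left) h4
  free {T} _ x z h := by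
    have ha' : IsIso (lift a.act (snd G X)) := ha
    let T' : Over P := Over.mk (x ≫ X.hom)
    let x' : T' ⟶ X := Over.homMk x rfl
    have hT : Nonempty T'.left := ‹Nonempty T›
    have h1 : x' ≫ tr a (cpt eG z) = x' := Over.OverMorphism.ext h
    rw [comp_tr] at h1
    apply cpt_injective (eG := eG) (T := T')
    rw [cpt_one hG, comp_one]
    have h2 : lift (toUnit T' ≫ cpt eG z) x' ≫ lift a.act (snd G X) =
        lift (1 : T' ⟶ G) x' ≫ lift a.act (snd G X) := by
      rw [comp_lift, comp_lift, lift_snd, lift_snd]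
      congr 1
      have h3 := one_sm a x'
      exact h1.trans h3.symm
    rw [cancel_mono] at h2
    have h5 := congrArg (fun f => f ≫ fst G X) h2
    simpa using h5

end Torsor

section Ext

variable {S : Scheme.{u}} {Z : Type u} [Group Z] {G E P : Over S} [GrpObj G] [GrpObj E] [GrpObj P]
  {eG : G ≅ TwC.const S Z}

/-- the translations of an extension with constant kernel. -/
noncomputable def ofExt (hG : TwC.IsConstGrp Z G eG) (u : G ⟶ E) (v : E ⟶ P) [IsMonHom u] [IsMonHom v]
    (huv : u ≫ v = 1) (hpb : IsPullback (fst E G) ((E ◁ u) ≫ μ[E]) v v) : CT v.left Z where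
  ρ z := ((𝟙 E) * (toUnit E ≫ cpt eG z ≫ u)⁻¹).left
  ρ_q z := by
    rw [← Over.comp_left]
    congr 1
    rw [mul_comp, Category.id_comp, inv_comp, Category.assoc, Category.assoc, huv, comp_one, comp_one,
      inv_one, _root_.mul_one]
  ρ_one := by rw [cpt_one hG, one_comp, comp_one, inv_one, _root_.mul_one]; rfl
  ρ_mul z w := by
    rw [← Over.comp_left]
    congr 1
    rw [comp_mul, Category.comp_id, comp_inv, cpt_mul hG, mul_comp, comp_mul, _root_.mul_inv_rev, ← _root_.mul_assoc]
    congr 2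
    rw [← Category.assoc _ (toUnit E), toUnit_unique (_ ≫ toUnit E) (toUnit E)]
  dec {T} x y h := by
    let T' : Over S := Over.mk (x ≫ E.hom)
    let x' : T' ⟶ E := Over.homMk x rfl
    have hy : y ≫ E.hom = x ≫ E.hom := by
      rw [← Over.w v, ← Category.assoc, ← Category.assoc, h]
    let y' : T' ⟶ E := Over.homMk y hy
    have hxy : x' ≫ v = y' ≫ v := Over.OverMorphism.ext h
    let l : T' ⟶ E ⊗ G := hpb.lift x' y' hxy
    let g : T' ⟶ G := l ≫ snd E G
    have hl1 : l ≫ fst E G = x' := hpb.lift_fst _ _ _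
    have hg : y' = x' * (g ≫ u) := by
      have h1 : l ≫ (E ◁ u) ≫ μ[E] = y' := hpb.lift_snd _ _ _
      rw [← h1, ← hl1, Hom.mul_def, ← Category.assoc]
      congr 1
      apply CartesianMonoidalCategory.hom_ext <;> simp [g]
    obtain ⟨V, hV1, hV2⟩ := const_dec (eG := eG) g
    refine ⟨fun z => V z⁻¹, fun t => ?_, fun z => ?_⟩
    · obtain ⟨z, hz, hz'⟩ := hV1 t
      refine ⟨z⁻¹, by simpa using hz, ?_⟩
      intro w hw
      rw [← hz' _ hw, _root_.inv_inv]
    let U : Over S := Over.mk ((V z⁻¹).ι ≫ T'.hom)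
    let j : U ⟶ T' := Over.homMk (V z⁻¹).ι rfl
    have hj : j ≫ g = j ≫ toUnit T' ≫ cpt eG z⁻¹ := by
      apply Over.OverMorphism.ext
      rw [Over.comp_left, Over.comp_left]
      exact hV2 z⁻¹
    have h4 : j ≫ y' = j ≫ x' ≫ ((𝟙 E) * (toUnit E ≫ cpt eG z ≫ u)⁻¹) := by
      rw [hg, comp_mul, comp_mul, comp_mul, Category.comp_id]
      congr 1
      rw [← Category.assoc, hj, cpt_inv hG, comp_inv, comp_inv, comp_inv, comp_inv, inv_comp]
      congr 1
    exact congrArg (fun f => f.left) h4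
  free {T} _ x z h := by
    let T' : Over S := Over.mk (x ≫ E.hom)
    let x' : T' ⟶ E := Over.homMk x rfl
    have hT : Nonempty T'.left := ‹Nonempty T›
    have h1 : x' ≫ ((𝟙 E) * (toUnit E ≫ cpt eG z ≫ u)⁻¹) = x' := Over.OverMorphism.ext h
    rw [comp_mul, Category.comp_id, mul_eq_left, comp_inv, inv_eq_one,
      ← Category.assoc x' (toUnit E), toUnit_unique (x' ≫ toUnit E) (toUnit T')] at h1
    apply cpt_injective (eG := eG) (T := T')
    rw [cpt_one hG, comp_one]
    have h2 : lift x' (toUnit T' ≫ cpt eG z) = lift x' (1 : T' ⟶ G) := by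
      apply hpb.hom_ext
      · rw [lift_fst, lift_fst]
      · have h3 : ∀ g : T' ⟶ G, lift x' g ≫ (E ◁ u) ≫ μ[E] = x' * (g ≫ u) := by
          intro g
          rw [Hom.mul_def, ← Category.assoc]
          congr 1
          apply CartesianMonoidalCategory.hom_ext <;> simp
        rw [h3, h3, Category.assoc, h1, one_comp]
    have h5 := congrArg (fun f => f ≫ snd E G) h2
    simpa using h5

end Ext

end K564.ConstTors
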