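import Groth.Agent.Sga7.H738.TorusF
import Groth.Agent.Sga3.H814.PolyThm
import Mathlib.RingTheory.FiniteType

/-!
# A connected reduced commutative affine group over an algebraically closed field is `𝔾_m^r × 𝔸^n` as a scheme
-/

set_option autoImplicit false
universe u

open TensorProduct HopfRep

namespace K564.HopfSplit

open Groth.Agent Groth.Agent.Sga3A.ComodBasic Groth.Agent.Sga3A.ComodUnip Groth.Agent.Sga3.H793.UnipPart
  Groth.Agent.Sga3.H793.UnipPart2 Groth.Agent.Sga3.H793.UnipPart3 Groth.Agent.Sga3A.MTBasis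
  Groth.Agent.Sga7.H738.GrpUnip Groth.Agent.Sga7.H738.GrpUnip2

variable (K A : Type u) [Field K] [IsAlgClosed K] [CommRing A] [IsDomain A] [HopfAlgebra K A]
  [Algebra.FiniteType K A] [Coalgebra.IsCocomm K A]

/-- inclusion of group-likes. -/
noncomputable def glHom : GroupLike K A →* A where
  toFun g := (g : A)
  map_one' := rfl
  map_mul' _ _ := rfl

/-- the decomposition as an algebra homomorphism. -/
noncomputable def Phi : MonoidAlgebra (unipSub K A) (GroupLike K A) →ₐ[unipSub K A] A :=
  MonoidAlgebra.lift (unipSub K A) A (GroupLike K A) (glHom K A)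

theorem Phi_bijective : Function.Bijective (Phi K A) := by
  have h : ∀ s : MonoidAlgebra (unipSub K A) (GroupLike K A), Phi K A s = phi (K := K) (A := A) s.coeff := by
    intro s
    rw [Phi, MonoidAlgebra.lift_apply, phi_apply]
    refine Finsupp.sum_congr fun g _ => ?_
    rw [Algebra.smul_def, mul_comm]
    rfl
  constructor
  · intro s t hst
    rw [h, h] at hst
    exact MonoidAlgebra.coeff_injective (phi_injective hst)
  · intro a
    obtain ⟨s, rfl⟩ := phi_surjective (K := K) a
    exact ⟨MonoidAlgebra.ofCoeff s, h _⟩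

/-- counit on the group part. -/
noncomputable def aug : MonoidAlgebra (unipSub K A) (GroupLike K A) →ₐ[unipSub K A] unipSub K A :=
  MonoidAlgebra.lift (unipSub K A) (unipSub K A) (GroupLike K A) 1

theorem finiteType_unipSub : Algebra.FiniteType K (unipSub K A) := by
  let e := AlgEquiv.ofBijective (Phi K A) (Phi_bijective K A)
  let f : A →ₐ[K] unipSub K A := ((aug K A).comp e.symm.toAlgHom).restrictScalars K
  refine Algebra.FiniteType.of_surjective f ?_
  intro b
  refine ⟨algebraMap (unipSub K A) A b, ?_⟩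
  change (aug K A) (e.symm (algebraMap (unipSub K A) A b)) = b
  rw [AlgEquiv.commutes, AlgHom.commutes]
  rfl

theorem fg_groupLike : Group.FG (GroupLike K A) := by
  let e := AlgEquiv.ofBijective (Phi K A) (Phi_bijective K A)
  have h1 : Algebra.FiniteType (unipSub K A) A := Algebra.FiniteType.of_restrictScalars_finiteType K _ _
  have h2 : Algebra.FiniteType (unipSub K A) (MonoidAlgebra (unipSub K A) (GroupLike K A)) :=
    h1.equiv e.symm
  exact MonoidAlgebra.finiteType_iff_group_fg.1 h2

theorem exists_poly : ∃ N : ℕ, Nonempty (unipSub K A ≃ₐ[K] MvPolynomial (Fin N) K) := by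
  let _ := Groth.Agent.Sga3C.SubHopf.hopfB (isHopfSubalgebra_unipSub (k := K) (A := A))
  have h1 := finiteType_unipSub K A
  have h2 : IsDomain (K ⊗[K] unipSub K A) :=
    (Algebra.TensorProduct.lid K (unipSub K A)).toMulEquiv.isDomain (unipSub K A)
  have h3 : IsUnipotent K (unipSub K A) := isUnipotent_unipSub (k := K) (A := A)
  exact Groth.Agent.Sga3.H814.PolyThm.exists_mvPolynomial K K (unipSub K A) h3 (unipSub K A)
    Groth.Agent.Sga3.H814.SubInv.isComodAlg_self
    (fun a ha => ⟨_, Groth.Agent.Sga3.H814.PolyThm.fixedPts_self ha⟩)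

/-- The coordinate ring of a connected commutative affine group is a Laurent polynomial ring over a polynomial
ring. -/
theorem exists_algEquiv : ∃ N r : ℕ,
    Nonempty (A ≃ₐ[K] MonoidAlgebra (MvPolynomial (Fin N) K) (Multiplicative (Fin r → ℤ))) := by
  obtain ⟨N, ⟨e₁⟩⟩ := exists_poly K A
  have := fg_groupLike K A
  obtain ⟨r, ⟨e₂⟩⟩ := exists_mulEquiv (GroupLike K A) groupLike_torsionFree
  let e := AlgEquiv.ofBijective (Phi K A) (Phi_bijective K A)
  exact ⟨N, r, ⟨((e.restrictScalars K).symm.trans (MonoidAlgebra.mapAlgEquiv K (GroupLike K A) e₁)).trans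
    (MonoidAlgebra.domCongr K (MvPolynomial (Fin N) K) e₂)⟩⟩

end K564.HopfSplit
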