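import Groth.Agent.Sga3.H784.Commute
import Groth.Agent.Sga3B.Par.DynDesc383
import Groth.Agent.Sga3B.DSPts
import Groth.Prelude.Def_Red2
import Groth.Prelude.Def_SGA7IX
import Groth.Agent.SGA7.K564.ExtAlg

/-!
# Multiplication by `n` on a torus is finite and surjective
-/

set_option autoImplicit false
universe u

open CategoryTheory CategoryTheory.Limits MonoidalCategory CartesianMonoidalCategory MonObj GrpObj AlgebraicGeometry

namespace K564.TorusPow

open Groth.Agent

section ring

variable (R : Type u) [CommRing R] (G : Type) [CommGroup G] (φ : G →* G) {n : ℕ} (hn : 0 < n)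
  (hφ : ∀ g, φ g = g ^ n)

include hn hφ

theorem isIntegral_mapDomain :
    (MonoidAlgebra.mapDomainAlgHom R R φ).toRingHom.IsIntegral := by
  intro x
  have hg : ∀ g : G, (MonoidAlgebra.mapDomainAlgHom R R φ).toRingHom.IsIntegralElem
      (MonoidAlgebra.single g 1) := by
    intro g
    have h1 : (MonoidAlgebra.mapDomainAlgHom R R φ).toRingHom.IsIntegralElem
        ((MonoidAlgebra.single g (1 : R)) ^ n) := by
      have h2 : (MonoidAlgebra.single g (1 : R)) ^ n =
          (MonoidAlgebra.mapDomainAlgHom R R φ).toRingHom (MonoidAlgebra.single g 1) := by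
        simp [MonoidAlgebra.single_pow, hφ]
      rw [h2]
      exact RingHom.isIntegralElem_map _
    let _ := (MonoidAlgebra.mapDomainAlgHom R R φ).toRingHom.toAlgebra
    exact IsIntegral.of_pow hn h1
  induction x using MonoidAlgebra.induction_linear with
  | zero => exact RingHom.isIntegralElem_zero _
  | add f g hf hg => exact RingHom.IsIntegralElem.add _ hf hg
  | single g r =>
    have h3 : MonoidAlgebra.single g r =
        (MonoidAlgebra.mapDomainAlgHom R R φ).toRingHom (MonoidAlgebra.single 1 r) *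
          MonoidAlgebra.single g 1 := by
      simp [MonoidAlgebra.single_mul_single]
    rw [h3]
    exact RingHom.IsIntegralElem.mul _ (RingHom.isIntegralElem_map _) (hg g)

theorem finite_mapDomain [Group.FG G] : (MonoidAlgebra.mapDomainAlgHom R R φ).toRingHom.Finite := by
  rw [RingHom.finite_iff_isIntegral_and_finiteType]
  refine ⟨isIntegral_mapDomain R G φ hn hφ, ?_⟩
  refine RingHom.FiniteType.of_comp_finiteType (f := algebraMap R (MonoidAlgebra R G)) ?_
  have h1 : ((MonoidAlgebra.mapDomainAlgHom R R φ).toRingHom).comp (algebraMap R (MonoidAlgebra R G)) =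
      algebraMap R (MonoidAlgebra R G) := (MonoidAlgebra.mapDomainAlgHom R R φ).comp_algebraMap
  rw [h1]
  exact RingHom.finiteType_algebraMap.mpr inferInstance

end ring

section scheme

variable {S : Scheme.{u}}

/-- the `n`-th power on `D(M)` -/
theorem id_pow_DS (M : Type) [AddCommGroup M] (n : ℕ) :
    (𝟙 (Red.DS S M) : Red.DS S M ⟶ Red.DS S M) ^ n = Red.DSmap S (n • AddMonoidHom.id M) := by
  have h1 : Sga3B.DSPts.dsChar ((𝟙 (Red.DS S M) : Red.DS S M ⟶ Red.DS S M) ^ n) =
      (Sga3B.DSPts.dsChar (𝟙 (Red.DS S M))) ^ n := by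
    induction n with
    | zero =>
      rw [pow_zero, pow_zero]
      exact map_one (Sga3B.DSPts.dsEquiv (Red.DS S M) M).symm
    | succ n ih => rw [pow_succ, pow_succ, Sga3B.DSPts.dsChar_mul, ih]
  have h2 : Sga3B.DSPts.dsChar (Red.DSmap S (n • AddMonoidHom.id M)) =
      (Sga3B.DSPts.dsChar (𝟙 (Red.DS S M))) ^ n := by
    rw [← Category.id_comp (Red.DSmap S (n • AddMonoidHom.id M)), Sga3B.DSPts.dsChar_DSmap]
    ext m
    obtain ⟨m, rfl⟩ := Multiplicative.ofAdd.surjective m
    change Sga3B.DSPts.dsChar (𝟙 (Red.DS S M)) (Multiplicative.ofAdd (n • m)) = _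
    rw [ofAdd_nsmul, map_pow]
    rfl
  have h3 := congrArg (Sga3B.DSPts.dsEquiv (Red.DS S M) M) (h1.trans h2.symm)
  rwa [Sga3B.DSPts.dsEquiv_dsChar, Sga3B.DSPts.dsEquiv_dsChar] at h3

theorem isFinite_surjective_pow_DS (r : ℕ) {n : ℕ} (hn : 0 < n) :
    IsFinite ((𝟙 (Red.DS S (Fin r → ℤ)) : Red.DS S (Fin r → ℤ) ⟶ Red.DS S (Fin r → ℤ)) ^ n).left ∧
    Surjective ((𝟙 (Red.DS S (Fin r → ℤ)) : Red.DS S (Fin r → ℤ) ⟶ Red.DS S (Fin r → ℤ)) ^ n).left := by
  let φ := AddMonoidHom.toMultiplicative (n • AddMonoidHom.id (Fin r → ℤ))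
  have hφ : ∀ g, φ g = g ^ n := fun g => rfl
  have hfg : Group.FG (Multiplicative (Fin r → ℤ)) := inferInstance
  let ψ := MonoidAlgebra.mapDomainAlgHom (ULift.{u} ℤ) (ULift.{u} ℤ) φ
  have h1 : IsFinite (Spec.map (CommRingCat.ofHom ψ.toRingHom)) := by
    rw [IsFinite.SpecMap_iff]
    exact finite_mapDomain _ _ φ hn hφ
  have hinj : Function.Injective φ := by
    intro a b hab
    rw [hφ, hφ] at hab
    exact pow_left_injective hn.ne' hab
  have h2 : Surjective (Spec.map (CommRingCat.ofHom ψ.toRingHom)) := by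
    constructor
    exact RingHom.IsIntegral.comap_surjective (isIntegral_mapDomain _ _ φ hn hφ)
      (MonoidAlgebra.mapDomain_injective hinj)
  have h3 := Sga3B.Par.DynDesc383.isPullback_map_left (Limits.IsTerminal.from specULiftZIsTerminal S)
    (Red.diagMap (ULift.{u} ℤ) (n • AddMonoidHom.id (Fin r → ℤ)))
  rw [id_pow_DS]
  exact ⟨MorphismProperty.of_isPullback (P := @IsFinite) h3 h1,
    MorphismProperty.of_isPullback (P := @Surjective) h3 h2⟩

end scheme

end K564.TorusPow
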